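import Cfsg.Agent.Lib.Char.Multiplicity
import Cfsg.Agent.Lib.Char.Convolution
import Cfsg.Agent.Lib.Char.Complete
import Cfsg.Agent.Lib.Char.Clifford
import Cfsg.Agent.Lib.CentralType.Extend
import Cfsg.Agent.Lib.Solvable.HHLinear
import Mathlib.LinearAlgebra.Matrix.Kronecker
import Mathlib

/-!
# Homogeneity through enveloping algebras of matrix representations
-/

set_option autoImplicit false
set_option linter.style.haveILetI false
set_option linter.unusedSectionVars false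

namespace Cfsg.Agent.Berger

open Matrix
open scoped Kronecker ComplexConjugate

universe u

variable {G : Type u} [Group G] {ι κ : Type} [Fintype ι] [DecidableEq ι] [Fintype κ] [DecidableEq κ]

/-- The representation `ρ` has no invariant subspace besides the two trivial ones. -/
def NoSub (ρ : G →* Matrix ι ι ℂ) : Prop :=
  ∀ S : Submodule ℂ (ι → ℂ), (∀ g, ∀ v ∈ S, ρ g *ᵥ v ∈ S) → S = ⊥ ∨ S = ⊤

/-- The span of the image of a subgroup. -/
def algOf (ρ : G →* Matrix ι ι ℂ) (N : Subgroup G) : Submodule ℂ (Matrix ι ι ℂ) :=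
  Submodule.span ℂ (ρ '' (N : Set G))

/-- The centre of the span of the image of `N` consists of scalars. -/
def Homog (ρ : G →* Matrix ι ι ℂ) (N : Subgroup G) : Prop :=
  ∀ z ∈ algOf ρ N, (∀ n ∈ N, z * ρ n = ρ n * z) → ∃ c : ℂ, z = c • 1

theorem apply_mem_algOf (ρ : G →* Matrix ι ι ℂ) {N : Subgroup G} {n : G} (hn : n ∈ N) :
    ρ n ∈ algOf ρ N :=
  Submodule.subset_span ⟨n, hn, rfl⟩

theorem one_mem_algOf (ρ : G →* Matrix ι ι ℂ) (N : Subgroup G) : (1 : Matrix ι ι ℂ) ∈ algOf ρ N :=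
  map_one ρ ▸ apply_mem_algOf ρ N.one_mem

theorem algOf_mono (ρ : G →* Matrix ι ι ℂ) {N M : Subgroup G} (h : N ≤ M) :
    algOf ρ N ≤ algOf ρ M :=
  Submodule.span_mono (Set.image_mono h)

theorem mul_mem_algOf (ρ : G →* Matrix ι ι ℂ) {N : Subgroup G} {a b : Matrix ι ι ℂ}
    (ha : a ∈ algOf ρ N) (hb : b ∈ algOf ρ N) : a * b ∈ algOf ρ N := by
  induction ha using Submodule.span_induction with
  | mem x hx =>
    obtain ⟨g, hg, rfl⟩ := hx
    induction hb using Submodule.span_induction with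
    | mem y hy =>
      obtain ⟨h, hh, rfl⟩ := hy
      rw [← map_mul]; exact apply_mem_algOf ρ (N.mul_mem hg hh)
    | zero => rw [mul_zero]; exact zero_mem _
    | add y z _ _ h1 h2 => rw [mul_add]; exact add_mem h1 h2
    | smul c y _ h1 => rw [mul_smul_comm]; exact Submodule.smul_mem _ c h1
  | zero => rw [zero_mul]; exact zero_mem _
  | add x y _ _ h1 h2 => rw [add_mul]; exact add_mem h1 h2
  | smul c x _ h1 => rw [smul_mul_assoc]; exact Submodule.smul_mem _ c h1

/-- A matrix commuting with the image commutes with the span. -/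
theorem commute_algOf {ρ : G →* Matrix ι ι ℂ} {N : Subgroup G} {x a : Matrix ι ι ℂ}
    (hx : ∀ n ∈ N, x * ρ n = ρ n * x) (ha : a ∈ algOf ρ N) : x * a = a * x := by
  induction ha using Submodule.span_induction with
  | mem y hy => obtain ⟨h, hh, rfl⟩ := hy; exact hx h hh
  | zero => simp
  | add y z _ _ h1 h2 => rw [mul_add, add_mul, h1, h2]
  | smul c y _ h1 => rw [mul_smul_comm, smul_mul_assoc, h1]

theorem conj_mem_algOf (ρ : G →* Matrix ι ι ℂ) {N : Subgroup G} {g : G}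
    (hN : ∀ n ∈ N, g * n * g⁻¹ ∈ N) {a : Matrix ι ι ℂ} (ha : a ∈ algOf ρ N) :
    ρ g * a * ρ g⁻¹ ∈ algOf ρ N := by
  induction ha using Submodule.span_induction with
  | mem y hy =>
    obtain ⟨h, hh, rfl⟩ := hy
    rw [← map_mul, ← map_mul]; exact apply_mem_algOf ρ (hN h hh)
  | zero => simp
  | add y z _ _ h1 h2 => rw [mul_add, add_mul]; exact add_mem h1 h2
  | smul c y _ h1 => rw [mul_smul_comm, smul_mul_assoc]; exact Submodule.smul_mem _ c h1

/-- Burnside's theorem. -/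
theorem algOf_top_eq_top [Nonempty ι] {ρ : G →* Matrix ι ι ℂ} (h : NoSub ρ) :
    algOf ρ ⊤ = ⊤ := by
  let E : Matrix ι ι ℂ ≃ₐ[ℂ] Module.End ℂ (ι → ℂ) := Matrix.toLinAlgEquiv'
  have h1 := (HHLinear.span_eq_top_and_schur (E.toMonoidHom.comp ρ) (fun U hU => h U fun g v hv => by
    simpa [E, Matrix.toLinAlgEquiv'_apply] using hU g v hv)).1
  rw [eq_top_iff]
  rintro x -
  have h2 : E x ∈ Submodule.span ℂ (Set.range (E.toMonoidHom.comp ρ)) := h1 ▸ Submodule.mem_top
  have h3 : Submodule.span ℂ (Set.range (E.toMonoidHom.comp ρ)) =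
      (algOf ρ ⊤).map E.toLinearMap := by
    rw [algOf, Submodule.map_span]
    congr 1
    ext y
    simp
  rw [h3] at h2
  obtain ⟨y, hy, hxy⟩ := h2
  rwa [E.injective hxy] at hy

theorem eq_scalar_of_commute_all [Nonempty ι] {x : Matrix ι ι ℂ} (h : ∀ a, x * a = a * x) :
    ∃ c : ℂ, x = c • 1 := by
  obtain ⟨c, hc⟩ := Matrix.mem_range_scalar_of_commute_single (M := x) fun i j _ =>
    (h (Matrix.single i j 1)).symm
  exact ⟨c, by rw [← hc, Matrix.scalar_apply, Matrix.smul_one_eq_diagonal]⟩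

theorem schur [Nonempty ι] {ρ : G →* Matrix ι ι ℂ} (h : NoSub ρ) {x : Matrix ι ι ℂ}
    (hx : ∀ g, x * ρ g = ρ g * x) : ∃ c : ℂ, x = c • 1 :=
  eq_scalar_of_commute_all fun a => commute_algOf (N := ⊤) (fun n _ => hx n)
    (algOf_top_eq_top h ▸ Submodule.mem_top)

/-- A representation whose span is everything has no invariant subspaces. -/
theorem noSub_of_algOf {ρ : G →* Matrix ι ι ℂ} (h : algOf ρ ⊤ = ⊤) : NoSub ρ := by
  intro S hS
  refine or_iff_not_imp_left.2 fun hne => ?_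
  obtain ⟨v, hv, hv0⟩ := Submodule.exists_mem_ne_zero_of_ne_bot hne
  obtain ⟨i, hi⟩ := Function.ne_iff.1 hv0
  have hinv : ∀ a : Matrix ι ι ℂ, a *ᵥ v ∈ S := by
    intro a
    have ha : a ∈ algOf ρ ⊤ := h ▸ Submodule.mem_top
    induction ha using Submodule.span_induction with
    | mem y hy => obtain ⟨g, -, rfl⟩ := hy; exact hS g v hv
    | zero => simp
    | add y z _ _ h1 h2 => rw [Matrix.add_mulVec]; exact add_mem h1 h2
    | smul c y _ h1 => rw [Matrix.smul_mulVec]; exact Submodule.smul_mem _ c h1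
  rw [eq_top_iff]
  rintro w -
  have := hinv (Matrix.of fun a b => if b = i then w a / v i else 0)
  convert this using 1
  funext a
  simp [Matrix.mulVec, dotProduct, div_mul_cancel₀ _ hi]

/-! ## Matrices and representations -/

theorem exists_matrix_of_isIrr {θ : G → ℂ} (h : Cfsg.IsIrrCharacter G θ) :
    ∃ (k : ℕ) (σ : G →* Matrix (Fin k) (Fin k) ℂ), 0 < k ∧ NoSub σ ∧ ∀ g, (σ g).trace = θ g := by
  obtain ⟨k, τ, hτ, rfl⟩ := h
  haveI := hτ
  refine ⟨k, (Matrix.toLinAlgEquiv'.symm :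
      Module.End ℂ (Fin k → ℂ) ≃ₐ[ℂ] Matrix (Fin k) (Fin k) ℂ).toMonoidHom.comp τ, ?_, ?_, ?_⟩
  · simpa using Char.finrank_pos_of_irreducible τ
  · intro S hS
    let S' : Subrepresentation τ := ⟨S, fun g v hv => by
      simpa [← Matrix.toLinAlgEquiv'_apply] using hS g v hv⟩
    rcases IsSimpleOrder.eq_bot_or_eq_top S' with h | h
    · exact Or.inl (congrArg Subrepresentation.toSubmodule h)
    · exact Or.inr (congrArg Subrepresentation.toSubmodule h)
  · intro g
    show (LinearMap.toMatrix' (τ g)).trace = _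
    rw [← Matrix.trace_toLin'_eq, Matrix.toLin'_toMatrix']
    rfl

theorem isIrr_trace [Nonempty ι] {ρ : G →* Matrix ι ι ℂ} (h : NoSub ρ) :
    Cfsg.IsIrrCharacter G (fun g => (ρ g).trace) := by
  haveI : Nontrivial (Subrepresentation (CentralTypeExt.matRep ρ)) := ⟨⊥, ⊤, fun he => by
    have := congrArg Subrepresentation.toSubmodule he
    exact bot_ne_top (α := Submodule ℂ (ι → ℂ)) this⟩
  haveI : (CentralTypeExt.matRep ρ).IsIrreducible :=
    { eq_bot_or_eq_top := fun a => by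
        rcases h a.toSubmodule (fun g v hv => by
          have := a.apply_mem_toSubmodule g hv
          simpa [CentralTypeExt.matRep_apply] using this) with he | he
        · exact Or.inl (Subrepresentation.toSubmodule_injective he)
        · exact Or.inr (Subrepresentation.toSubmodule_injective he) }
  rw [← CentralTypeExt.matRep_character]
  exact Char.isIrrCharacter_of_rep _

theorem isCharacter_trace (ρ : G →* Matrix ι ι ℂ) :
    Cfsg.IsCharacter G (fun g => (ρ g).trace) := by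
  rw [← CentralTypeExt.matRep_character]
  exact Char.isCharacter_of_rep _

/-- Equal traces give intertwining invertible matrices. -/
theorem exists_intertwiner [Finite G] (ρ : G →* Matrix ι ι ℂ) (σ : G →* Matrix κ κ ℂ)
    (h : ∀ g, (ρ g).trace = (σ g).trace) :
    ∃ (P : Matrix κ ι ℂ) (Q : Matrix ι κ ℂ), P * Q = 1 ∧ Q * P = 1 ∧ ∀ g, P * ρ g = σ g * P := by
  obtain ⟨e⟩ := Char.nonempty_equiv_of_char_eq (CentralTypeExt.matRep ρ) (CentralTypeExt.matRep σ)
    (by rw [CentralTypeExt.matRep_character, CentralTypeExt.matRep_character]; exact funext h)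
  let L : (ι → ℂ) ≃ₗ[ℂ] (κ → ℂ) := e.toLinearEquiv
  refine ⟨LinearMap.toMatrix' L.toLinearMap, LinearMap.toMatrix' L.symm.toLinearMap, ?_, ?_, ?_⟩
  · rw [← LinearMap.toMatrix'_comp]; simp
  · rw [← LinearMap.toMatrix'_comp]; simp
  · intro g
    refine Matrix.ext_of_mulVec_single fun i => ?_
    rw [← Matrix.mulVec_mulVec, ← Matrix.mulVec_mulVec, LinearMap.toMatrix'_mulVec,
      LinearMap.toMatrix'_mulVec]
    exact e.toIntertwiningMap.isIntertwining _ _ g _

/-! ## Homogeneity -/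

/-- Conjugation by a pair of mutually inverse matrices. -/
noncomputable def algConj {P : Matrix κ ι ℂ} {Q : Matrix ι κ ℂ} (hPQ : P * Q = 1) (hQP : Q * P = 1) :
    Matrix ι ι ℂ ≃ₐ[ℂ] Matrix κ κ ℂ where
  toFun x := P * x * Q
  invFun y := Q * y * P
  left_inv x := by simp only [Matrix.mul_assoc, hQP, Matrix.mul_one]; rw [← Matrix.mul_assoc, hQP, Matrix.one_mul]
  right_inv y := by simp only [Matrix.mul_assoc, hPQ, Matrix.mul_one]; rw [← Matrix.mul_assoc, hPQ, Matrix.one_mul]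
  map_mul' x y := by
    simp only [Matrix.mul_assoc]
    rw [← Matrix.mul_assoc Q P, hQP, Matrix.one_mul]
  map_add' x y := by simp only [Matrix.mul_add, Matrix.add_mul]
  commutes' c := by
    rw [Algebra.algebraMap_eq_smul_one, Algebra.algebraMap_eq_smul_one, Matrix.mul_smul,
      Matrix.smul_mul, Matrix.mul_one, hPQ]

/-- `x ↦ 1 ⊗ x`. -/
noncomputable def onek (e : Type) [Fintype e] [DecidableEq e] :
    Matrix κ κ ℂ →ₐ[ℂ] Matrix (e × κ) (e × κ) ℂ :=
  AlgHom.ofLinearMap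
    { toFun := fun x => (1 : Matrix e e ℂ) ⊗ₖ x
      map_add' := fun x y => Matrix.kronecker_add _ _ _
      map_smul' := fun c x => Matrix.kronecker_smul _ _ _ }
    (Matrix.one_kronecker_one)
    (fun x y => by
      show (1 : Matrix e e ℂ) ⊗ₖ (x * y) = ((1 : Matrix e e ℂ) ⊗ₖ x) * ((1 : Matrix e e ℂ) ⊗ₖ y)
      rw [← Matrix.mul_kronecker_mul, Matrix.one_mul])

theorem onek_apply (e : Type) [Fintype e] [DecidableEq e] (x : Matrix κ κ ℂ) :
    onek e x = (1 : Matrix e e ℂ) ⊗ₖ x := rfl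

theorem onek_injective {e : Type} [Fintype e] [DecidableEq e] [Nonempty e] :
    Function.Injective (onek (κ := κ) e) := by
  intro x y h
  obtain ⟨i⟩ := ‹Nonempty e›
  ext a b
  have := congrFun (congrFun h (i, a)) (i, b)
  simpa [onek_apply, Matrix.kroneckerMap_apply] using this

/-- A scalar multiple of `1 ⊗ x` determines `x`. -/
theorem scalar_of_onek {e : Type} [Fintype e] [DecidableEq e] [Nonempty e] {x : Matrix κ κ ℂ}
    {c : ℂ} (h : onek e x = c • 1) : x = c • 1 :=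
  onek_injective (by rw [h, map_smul, map_one])

/-- An element of `algOf` transported along a relation `Φ (ρ n) = f (σ n)`. -/
theorem map_algOf {H : Type u} [Group H] (j : H →* G) (ρ : G →* Matrix ι ι ℂ)
    (σ : H →* Matrix κ κ ℂ) (f : Matrix κ κ ℂ →ₗ[ℂ] Matrix ι ι ℂ) (N : Subgroup H)
    (hf : ∀ n ∈ N, f (σ n) ∈ algOf ρ (N.map j)) {x : Matrix κ κ ℂ} (hx : x ∈ algOf σ N) :
    f x ∈ algOf ρ (N.map j) := by
  have : algOf σ N ≤ (algOf ρ (N.map j)).comap f := Submodule.span_le.2 (by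
    rintro _ ⟨n, hn, rfl⟩
    exact hf n hn)
  exact this hx

/-- Restriction of a matrix representation. -/
def res (ρ : G →* Matrix ι ι ℂ) (N : Subgroup G) : N →* Matrix ι ι ℂ := ρ.comp N.subtype

@[simp] theorem res_apply (ρ : G →* Matrix ι ι ℂ) (N : Subgroup G) (n : N) : res ρ N n = ρ n := rfl

theorem algOf_res (ρ : G →* Matrix ι ι ℂ) (N : Subgroup G) (M : Subgroup N) :
    algOf (res ρ N) M = algOf ρ (M.map N.subtype) := by
  rw [algOf, algOf, Subgroup.coe_map, ← Set.image_comp]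
  rfl

theorem algOf_res_top (ρ : G →* Matrix ι ι ℂ) (N : Subgroup G) :
    algOf (res ρ N) ⊤ = algOf ρ N := by
  rw [algOf_res, ← MonoidHom.range_eq_map, Subgroup.range_subtype]

/-- The isotypic idempotent of an irreducible character. -/
noncomputable def idem [Fintype G] (ρ : G →* Matrix ι ι ℂ) (θ : G → ℂ) : Matrix ι ι ℂ :=
  (θ 1 / (Nat.card G : ℂ)) • ∑ x : G, θ x⁻¹ • ρ x

section Idem

variable [Fintype G]

theorem idem_mem (ρ : G →* Matrix ι ι ℂ) (θ : G → ℂ) : idem ρ θ ∈ algOf ρ ⊤ :=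
  Submodule.smul_mem _ _ (Submodule.sum_mem _ fun x _ =>
    Submodule.smul_mem _ _ (apply_mem_algOf ρ (Subgroup.mem_top x)))

theorem trace_idem_mul (ρ : G →* Matrix ι ι ℂ) (θ : Cfsg.IrrCharacter G) (g : G) :
    (idem ρ (θ : G → ℂ) * ρ g).trace =
      Cfsg.classInner (fun g => (ρ g).trace) (θ : G → ℂ) * (θ : G → ℂ) g := by
  classical
  have hc := isCharacter_trace ρ
  have h1 : (idem ρ (θ : G → ℂ) * ρ g).trace =
      ((θ : G → ℂ) 1 / (Nat.card G : ℂ)) * ∑ x : G, (θ : G → ℂ) x⁻¹ * (ρ (x * g)).trace := by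
    simp only [idem, smul_mul_assoc, Finset.sum_mul, Matrix.trace_smul, Matrix.trace_sum, ← map_mul,
      smul_eq_mul]
  obtain ⟨a, ha⟩ : ∃ a : Cfsg.IrrCharacter G → ℂ,
      a = fun ψ : Cfsg.IrrCharacter G => Cfsg.classInner (fun g => (ρ g).trace) (ψ : G → ℂ) := ⟨_, rfl⟩
  have h2 : ∀ y, (ρ y).trace = ∑ ψ : Cfsg.IrrCharacter G, a ψ * (ψ : G → ℂ) y := fun y => by
    subst ha
    conv_lhs => rw [show (ρ y).trace = (fun g => (ρ g).trace) y from rfl,
      Char.IsCharacter.eq_sum hc]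
    simp
  rw [show Cfsg.classInner (fun g => (ρ g).trace) (θ : G → ℂ) = a θ by rw [ha], h1]
  simp only [h2, Finset.mul_sum]
  rw [Finset.sum_comm]
  have h3 : ∀ ψ : Cfsg.IrrCharacter G, ∑ x : G, (θ : G → ℂ) x⁻¹ * (ψ : G → ℂ) (x * g) =
      if θ = ψ then (Nat.card G : ℂ) * (ψ : G → ℂ) g / (ψ : G → ℂ) 1 else 0 := fun ψ => by
    rw [← Cfsg.Agent.CharX.convolution θ ψ g]
    exact Fintype.sum_equiv (Equiv.inv G) _ _ fun x => by simp
  have hG : (Nat.card G : ℂ) ≠ 0 := Nat.cast_ne_zero.2 Nat.card_pos.ne'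
  have hθ1 := Char.IsIrrCharacter.one_ne_zero θ.2
  rw [Finset.sum_eq_single θ]
  · rw [← Finset.mul_sum]
    have : ∑ x : G, (θ : G → ℂ) x⁻¹ * (a θ *
        (θ : G → ℂ) (x * g)) = a θ *
          ((Nat.card G : ℂ) * (θ : G → ℂ) g / (θ : G → ℂ) 1) := by
      rw [← (h3 θ).trans (if_pos rfl), Finset.mul_sum]
      exact Finset.sum_congr rfl fun x _ => by ring
    rw [this]
    field_simp
  · intro ψ _ hne
    rw [← Finset.mul_sum]
    have : ∑ x : G, (θ : G → ℂ) x⁻¹ * (a ψ *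
        (ψ : G → ℂ) (x * g)) = 0 := by
      rw [show (0 : ℂ) = a ψ * 0 by ring,
        ← (h3 ψ).trans (if_neg hne.symm), Finset.mul_sum]
      exact Finset.sum_congr rfl fun x _ => by ring
    rw [this, mul_zero]
  · exact fun h => absurd (Finset.mem_univ _) h

theorem idem_mul_idem (ρ : G →* Matrix ι ι ℂ) (θ ψ : Cfsg.IrrCharacter G) [Decidable (θ = ψ)] :
    idem ρ (θ : G → ℂ) * idem ρ (ψ : G → ℂ) = if θ = ψ then idem ρ (θ : G → ℂ) else 0 := by
  have hG : (Nat.card G : ℂ) ≠ 0 := Nat.cast_ne_zero.2 Nat.card_pos.ne'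
  have hθ1 := Char.IsIrrCharacter.one_ne_zero θ.2
  have key : ∀ g : G, ∑ x : G, (θ : G → ℂ) x⁻¹ * (ψ : G → ℂ) ((x⁻¹ * g))⁻¹ =
      if θ = ψ then (Nat.card G : ℂ) * (ψ : G → ℂ) g⁻¹ / (ψ : G → ℂ) 1 else 0 := fun g => by
    rw [← Cfsg.Agent.CharX.convolution θ ψ g⁻¹]
    refine Fintype.sum_equiv (Equiv.inv G) _ _ fun x => ?_
    congr 1
    simp only [Equiv.inv_apply, _root_.mul_inv_rev, inv_inv]
    have := Char.IsCharacter.isClassFunction (Char.IsIrrCharacter.isCharacter ψ.2) (g⁻¹ * x) x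
    rw [← this]
    congr 1
    group
  have h1 : (∑ x : G, (θ : G → ℂ) x⁻¹ • ρ x) * (∑ y : G, (ψ : G → ℂ) y⁻¹ • ρ y) =
      ∑ g : G, (∑ x : G, (θ : G → ℂ) x⁻¹ * (ψ : G → ℂ) ((x⁻¹ * g))⁻¹) • ρ g := by
    rw [Finset.sum_mul_sum]
    simp only [Finset.sum_smul, smul_mul_smul_comm, ← map_mul]
    conv_rhs => rw [Finset.sum_comm]
    refine Finset.sum_congr rfl fun x _ => ?_
    exact Fintype.sum_equiv (Equiv.mulLeft x) _ _ fun y => by simp
  simp only [idem, smul_mul_smul_comm, h1, key]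
  split_ifs with h
  · subst h
    rw [Finset.smul_sum, Finset.smul_sum]
    refine Finset.sum_congr rfl fun g _ => ?_
    rw [smul_smul, smul_smul]
    congr 1
    field_simp
  · simp

theorem sum_idem (ρ : G →* Matrix ι ι ℂ) :
    ∑ θ : Cfsg.IrrCharacter G, idem ρ (θ : G → ℂ) = 1 := by
  classical
  simp only [idem, Finset.smul_sum, smul_smul]
  rw [Finset.sum_comm]
  simp only [← Finset.sum_smul]
  have hG : (Nat.card G : ℂ) ≠ 0 := Nat.cast_ne_zero.2 Nat.card_pos.ne'
  have h : ∀ x : G, ∑ θ : Cfsg.IrrCharacter G, (θ : G → ℂ) 1 / (Nat.card G : ℂ) * (θ : G → ℂ) x⁻¹ =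
      if x = 1 then 1 else 0 := fun x => by
    have := congrFun (Char.leftRegular_eq_sum (G := G)) x⁻¹
    rw [Char.character_leftRegular, Finset.sum_apply] at this
    simp only [Pi.smul_apply, smul_eq_mul] at this
    simp only [div_mul_eq_mul_div, ← Finset.sum_div, ← this, inv_eq_one]
    split_ifs <;> simp [hG]
  rw [Finset.sum_congr rfl fun x _ => by rw [h x]]
  simp

/-- If one constituent idempotent is a scalar, the character is homogeneous. -/
theorem trace_eq_of_idem_scalar (ρ : G →* Matrix ι ι ℂ) (θ : Cfsg.IrrCharacter G) {c : ℂ}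
    (hc : idem ρ (θ : G → ℂ) = c • 1)
    (hne : Cfsg.classInner (fun g => (ρ g).trace) (θ : G → ℂ) ≠ 0) :
    ∃ e : ℕ, 0 < e ∧ ∀ g, (ρ g).trace = (e : ℂ) * (θ : G → ℂ) g := by
  classical
  obtain ⟨e, he⟩ := Char.IsCharacter.exists_classInner_nat (isCharacter_trace ρ)
    (Char.IsIrrCharacter.isCharacter θ.2)
  have hc' : c = 1 := by
    have := idem_mul_idem ρ θ θ
    rw [if_pos rfl, hc, smul_mul_smul_comm, one_mul] at this
    have h0 : c ≠ 0 := fun h0 => by
      have h1 := trace_idem_mul ρ θ 1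
      rw [hc, h0, zero_smul, zero_mul, Matrix.trace_zero] at h1
      exact mul_ne_zero hne (Char.IsIrrCharacter.one_ne_zero θ.2) h1.symm
    have h2 := congrArg Matrix.trace this
    simp only [Matrix.trace_smul, smul_eq_mul] at h2
    rcases isEmpty_or_nonempty ι with hι | hι
    · exfalso
      apply hne
      rw [Cfsg.classInner]
      simp [Matrix.trace]
    · have h3 : ((Matrix.trace (1 : Matrix ι ι ℂ))) ≠ 0 := by simp
      exact mul_left_cancel₀ h0 (by simpa using mul_right_cancel₀ h3 h2)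
  refine ⟨e, Nat.pos_of_ne_zero fun h => hne (by rw [he, h, Nat.cast_zero]), fun g => ?_⟩
  rw [← he, ← trace_idem_mul ρ θ g, hc, hc', one_smul, one_mul]

end Idem

/-- A homogeneous restriction is a multiple of an irreducible one, in coordinates. -/
theorem exists_form [Finite G] [Nonempty ι] (ρ : G →* Matrix ι ι ℂ) (N : Subgroup G)
    (h : Homog ρ N) : ∃ (e k : ℕ) (σ : N →* Matrix (Fin k) (Fin k) ℂ)
      (Φ : Matrix ι ι ℂ ≃ₐ[ℂ] Matrix (Fin e × Fin k) (Fin e × Fin k) ℂ),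
      0 < e ∧ 0 < k ∧ Fintype.card ι = e * k ∧ NoSub σ ∧
      (∀ n : N, (ρ n).trace = (e : ℂ) * (σ n).trace) ∧
      ∀ n : N, Φ (ρ n) = onek (Fin e) (σ n) := by
  haveI : Fintype N := Fintype.ofFinite N
  have hc := isCharacter_trace (res ρ N)
  obtain ⟨θ, hθ⟩ := Char.IsCharacter.exists_constituent hc fun h0 => by
    have := congrFun h0 1
    simp at this
  obtain ⟨c, hcz⟩ := h (idem (res ρ N) (θ : N → ℂ))
    (algOf_res_top ρ N ▸ idem_mem (res ρ N) _) fun n hn => by
    have hcl := Char.IsCharacter.isClassFunction (Char.IsIrrCharacter.isCharacter θ.2)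
    simp only [idem, smul_mul_assoc, mul_smul_comm, Finset.sum_mul, Finset.mul_sum]
    congr 1
    refine Fintype.sum_equiv (MulAut.conj (⟨n, hn⟩ : N)⁻¹).toEquiv _ _ fun x => ?_
    simp only [MulEquiv.toEquiv_eq_coe, MulEquiv.coe_toEquiv, MulAut.conj_apply, res_apply,
      ← map_mul, Subgroup.coe_mul, Subgroup.coe_inv, inv_inv]
    congr 1
    · rw [← hcl x⁻¹ (⟨n, hn⟩ : N)⁻¹]
      congr 1
      group
    · congr 1
      group
  obtain ⟨e, he, htr⟩ := trace_eq_of_idem_scalar (res ρ N) θ hcz hθ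
  obtain ⟨k, σ, hk, hσ, hσt⟩ := exists_matrix_of_isIrr θ.2
  have htr' : ∀ n : N, (ρ n).trace = (e : ℂ) * (σ n).trace := fun n => by
    rw [hσt]; exact htr n
  obtain ⟨P, Q, hPQ, hQP, hint⟩ := exists_intertwiner (res ρ N)
    ((onek (Fin e)).toMonoidHom.comp σ) fun n => by
    rw [res_apply, htr']
    show _ = ((1 : Matrix (Fin e) (Fin e) ℂ) ⊗ₖ σ n).trace
    rw [Matrix.trace_kronecker, Matrix.trace_one, Fintype.card_fin]
  refine ⟨e, k, σ, algConj hPQ hQP, he, hk, ?_, hσ, htr', fun n => ?_⟩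
  · have h1 := htr' 1
    simp only [OneMemClass.coe_one, map_one, Matrix.trace_one, Fintype.card_fin] at h1
    exact_mod_cast h1
  · show P * ρ n * Q = _
    have := hint n
    rw [res_apply] at this
    rw [this, Matrix.mul_assoc, hPQ, Matrix.mul_one]
    rfl

/-- A multiple of an irreducible character gives a homogeneous restriction. -/
theorem homog_of_trace [Finite G] [Nonempty ι] (ρ : G →* Matrix ι ι ℂ) (N : Subgroup G)
    {θ : N → ℂ} (hθ : Cfsg.IsIrrCharacter N θ) {e : ℕ}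
    (htr : ∀ n : N, (ρ n).trace = (e : ℂ) * θ n) : Homog ρ N := by
  intro z hz hcom
  obtain ⟨k, σ, hk, hσ, hσt⟩ := exists_matrix_of_isIrr hθ
  haveI : Nonempty (Fin k) := ⟨⟨0, hk⟩⟩
  obtain ⟨P, Q, hPQ, hQP, hint⟩ := exists_intertwiner (res ρ N)
    ((onek (Fin e)).toMonoidHom.comp σ) fun n => by
    rw [res_apply, htr, ← hσt]
    show _ = ((1 : Matrix (Fin e) (Fin e) ℂ) ⊗ₖ σ n).trace
    rw [Matrix.trace_kronecker, Matrix.trace_one, Fintype.card_fin]
  let Φ := algConj hPQ hQP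
  have hΦ : ∀ n : N, Φ (ρ n) = onek (Fin e) (σ n) := fun n => by
    show P * ρ n * Q = _
    have := hint n
    rw [res_apply] at this
    rw [this, Matrix.mul_assoc, hPQ, Matrix.mul_one]
    rfl
  haveI : Nonempty (Fin e) := by
    rcases Nat.eq_zero_or_pos e with rfl | h
    · have := htr 1
      simp at this
    · exact ⟨⟨0, h⟩⟩
  have hmem : Φ z ∈ LinearMap.range (onek (κ := Fin k) (Fin e)).toLinearMap := by
    have : algOf ρ N ≤
        (LinearMap.range (onek (κ := Fin k) (Fin e)).toLinearMap).comap Φ.toLinearMap :=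
      Submodule.span_le.2 (by
        rintro _ ⟨n, hn, rfl⟩
        exact ⟨σ ⟨n, hn⟩, (hΦ ⟨n, hn⟩).symm⟩)
    exact this hz
  obtain ⟨x, hx⟩ := hmem
  change onek (Fin e) x = Φ z at hx
  obtain ⟨c, rfl⟩ := schur hσ (x := x) fun n => onek_injective (e := Fin e) (by
    rw [map_mul, map_mul, hx, ← hΦ, ← map_mul, ← map_mul, hcom n n.2])
  exact ⟨c, Φ.injective (by rw [← hx, map_smul, map_one, map_smul, map_one])⟩

end Cfsg.Agent.Berger
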