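import Cfsg.Agent.Lib.Berger.Basic

/-!
# Blocks of an induced matrix representation
-/

set_option autoImplicit false
set_option linter.style.haveILetI false
set_option linter.unusedSectionVars false
set_option linter.unusedVariables false

namespace Cfsg.Agent.Berger

open Matrix Module

universe u

variable {G : Type u} [Group G] {ι : Type} [Fintype ι] [DecidableEq ι]

/-- The translate of a subspace. -/
noncomputable def img (ρ : G →* Matrix ι ι ℂ) (g : G) (Y : Submodule ℂ (ι → ℂ)) :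
    Submodule ℂ (ι → ℂ) := Y.map (Matrix.mulVecLin (ρ g))

theorem img_img (ρ : G →* Matrix ι ι ℂ) (g h : G) (Y : Submodule ℂ (ι → ℂ)) :
    img ρ g (img ρ h Y) = img ρ (g * h) Y := by
  rw [img, img, img, ← Submodule.map_comp, ← Matrix.mulVecLin_mul, map_mul]

theorem finrank_img_le (ρ : G →* Matrix ι ι ℂ) (g : G) (Y : Submodule ℂ (ι → ℂ)) :
    finrank ℂ (img ρ g Y) ≤ finrank ℂ Y :=
  Submodule.finrank_map_le _ _

theorem finrank_iSup_le {α : Type*} (s : Finset α) (S : α → Submodule ℂ (ι → ℂ)) (d : ℕ)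
    (h : ∀ a ∈ s, finrank ℂ (S a) ≤ d) : finrank ℂ ↥(⨆ a ∈ s, S a) ≤ s.card * d := by
  classical
  induction s using Finset.induction_on with
  | empty => simp
  | insert a s ha ih =>
    rw [Finset.iSup_insert, Finset.card_insert_of_notMem ha]
    have h1 := Submodule.finrank_add_le_finrank_add_finrank (S a) (⨆ b ∈ s, S b)
    have h2 := ih fun b hb => h b (Finset.mem_insert_of_mem hb)
    have h3 := h a (Finset.mem_insert_self a s)
    rw [Nat.add_mul, one_mul]
    omega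

theorem img_eq_of_inv {ρ : G →* Matrix ι ι ℂ} {H : Subgroup G} {Y : Submodule ℂ (ι → ℂ)}
    (hY : ∀ h ∈ H, ∀ v ∈ Y, ρ h *ᵥ v ∈ Y) {g g' : G} (h : g⁻¹ * g' ∈ H) :
    img ρ g' Y = img ρ g Y := by
  have key : ∀ x ∈ H, img ρ x Y = Y := fun x hx => by
    refine le_antisymm ?_ fun v hv => ?_
    · rintro _ ⟨v, hv, rfl⟩
      exact hY x hx v hv
    · exact ⟨ρ x⁻¹ *ᵥ v, hY _ (H.inv_mem hx) v hv, by
        rw [Matrix.mulVecLin_apply, Matrix.mulVec_mulVec, ← map_mul, mul_inv_cancel, map_one,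
          Matrix.one_mulVec]⟩
  conv_lhs => rw [show g' = g * (g⁻¹ * g') by group, ← img_img, key _ h]

/-- An imprimitivity system can be coarsened to a maximal subgroup. -/
theorem exists_larger [Finite G] (ρ : G →* Matrix ι ι ℂ) {H H' : Subgroup G} (hHH : H ≤ H')
    {Y : Submodule ℂ (ι → ℂ)} (hne : Y ≠ ⊥) (hY : ∀ h ∈ H, ∀ v ∈ Y, ρ h *ᵥ v ∈ Y) :
    ∃ Y' : Submodule ℂ (ι → ℂ), Y' ≠ ⊥ ∧ (∀ h ∈ H', ∀ v ∈ Y', ρ h *ᵥ v ∈ Y') ∧
      H'.index * finrank ℂ Y' ≤ H.index * finrank ℂ Y := by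
  classical
  haveI : Fintype (H' ⧸ H.subgroupOf H') := Fintype.ofFinite _
  obtain ⟨F, hF⟩ : ∃ F : H' ⧸ H.subgroupOf H' → Submodule ℂ (ι → ℂ),
      ∀ q, F q = img ρ ((Quotient.out q : H') : G) Y := ⟨_, fun q => rfl⟩
  obtain ⟨Y', hY'⟩ : ∃ Y', Y' = ⨆ q ∈ (Finset.univ : Finset (H' ⧸ H.subgroupOf H')), F q :=
    ⟨_, rfl⟩
  have hle : ∀ x : H', img ρ (x : G) Y ≤ Y' := fun x => by
    rw [hY']
    refine le_trans (le_of_eq ?_) (le_biSup F (Finset.mem_univ (QuotientGroup.mk x)))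
    rw [hF]
    refine img_eq_of_inv hY ?_
    have := (QuotientGroup.eq (a := ((QuotientGroup.mk x : H' ⧸ H.subgroupOf H')).out) (b := x)).1
      (QuotientGroup.out_eq' _)
    simpa [Subgroup.mem_subgroupOf] using this
  refine ⟨Y', fun h => hne ?_, fun h hh => ?_, ?_⟩
  · have h1 := hle 1
    rw [h, le_bot_iff] at h1
    rw [← h1, img, OneMemClass.coe_one, map_one, Matrix.mulVecLin_one, Submodule.map_id]
  · have hle' : Y' ≤ Submodule.comap (Matrix.mulVecLin (ρ h)) Y' := by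
      refine hY'.le.trans (iSup₂_le fun q _ => ?_)
      rw [← Submodule.map_le_iff_le_comap]
      have h1 := hle (⟨h, hh⟩ * Quotient.out q)
      rw [Subgroup.coe_mul, ← img_img, ← hF] at h1
      exact h1
    intro v hv
    exact hle' hv
  · have h1 : finrank ℂ Y' ≤
        (Finset.univ : Finset (H' ⧸ H.subgroupOf H')).card * finrank ℂ Y := by
      rw [hY']
      exact finrank_iSup_le Finset.univ F _ fun q _ => by rw [hF]; exact finrank_img_le ρ _ _
    rw [Finset.card_univ, ← Nat.card_eq_fintype_card] at h1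
    calc H'.index * finrank ℂ Y'
        ≤ H'.index * (Nat.card (H' ⧸ H.subgroupOf H') * finrank ℂ Y) := Nat.mul_le_mul_left _ h1
      _ = H.index * finrank ℂ Y := by
          rw [← Subgroup.index_eq_card, ← Subgroup.relIndex_mul_index hHH, Subgroup.relIndex]
          ring

/-- The projection onto the distinguished block. -/
theorem exists_projection [Finite G] (ρ : G →* Matrix ι ι ℂ) (hirr : NoSub ρ) {H : Subgroup G}
    {Y : Submodule ℂ (ι → ℂ)} (hne : Y ≠ ⊥) (hY : ∀ h ∈ H, ∀ v ∈ Y, ρ h *ᵥ v ∈ Y)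
    (hdim : H.index * finrank ℂ Y ≤ Fintype.card ι) :
    ∃ π : Matrix ι ι ℂ, π ≠ 0 ∧ π * π = π ∧ (∀ h ∈ H, π * ρ h = ρ h * π) ∧
      (∀ g, g ∉ H → π * ρ g * π = 0) ∧
      (∀ [Fintype (G ⧸ H)], ∑ c : G ⧸ H, ρ c.out * π * ρ c.out⁻¹ = 1) := by
  classical
  haveI : Fintype (G ⧸ H) := Fintype.ofFinite _
  let S : G ⧸ H → Submodule ℂ (ι → ℂ) := fun c => img ρ c.out Y
  have hS : ∀ g : G, img ρ g Y = S (QuotientGroup.mk g) := fun g =>
    img_eq_of_inv hY ((QuotientGroup.eq).1 (QuotientGroup.out_eq' _))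
  have htop : (⨆ c ∈ (Finset.univ : Finset (G ⧸ H)), S c) = ⊤ := by
    have hinv : ∀ g, ∀ v ∈ (⨆ c ∈ (Finset.univ : Finset (G ⧸ H)), S c),
        ρ g *ᵥ v ∈ (⨆ c ∈ (Finset.univ : Finset (G ⧸ H)), S c) := by
      intro g v hv
      have : (⨆ c ∈ (Finset.univ : Finset (G ⧸ H)), S c).map (Matrix.mulVecLin (ρ g)) ≤
          ⨆ c ∈ (Finset.univ : Finset (G ⧸ H)), S c := by
        simp only [Submodule.map_iSup]
        refine iSup₂_le fun q _ => ?_
        rw [show ((S q).map (Matrix.mulVecLin (ρ g))) = img ρ g (img ρ q.out Y) from rfl, img_img, hS]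
        exact le_biSup S (Finset.mem_univ _)
      exact this ⟨v, hv, rfl⟩
    refine (hirr _ hinv).resolve_left fun h => hne ?_
    have h1 : S (QuotientGroup.mk 1) ≤ ⊥ := h ▸ le_biSup S (Finset.mem_univ _)
    rw [← hS, le_bot_iff] at h1
    rw [← h1, img, map_one, Matrix.mulVecLin_one, Submodule.map_id]
  set c₀ : G ⧸ H := QuotientGroup.mk 1
  set R := ⨆ c ∈ Finset.univ.erase c₀, S c with hR
  have hY0 : S c₀ = Y := by rw [← hS, img, map_one, Matrix.mulVecLin_one, Submodule.map_id]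
  have hsup : Y ⊔ R = ⊤ := by
    rw [← hY0, hR, ← htop]
    conv_rhs => rw [← Finset.insert_erase (Finset.mem_univ c₀), Finset.iSup_insert]
  have hcompl : IsCompl Y R := by
    refine ⟨?_, codisjoint_iff.2 hsup⟩
    rw [disjoint_iff, ← Submodule.finrank_eq_zero]
    have h1 := Submodule.finrank_sup_add_finrank_inf_eq Y R
    have h2 := finrank_iSup_le (Finset.univ.erase c₀) S (finrank ℂ Y)
      fun c _ => finrank_img_le ρ _ _
    rw [← hR, Finset.card_erase_of_mem (Finset.mem_univ _), Finset.card_univ,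
      ← Nat.card_eq_fintype_card, ← Subgroup.index_eq_card] at h2
    rw [hsup, finrank_top, Module.finrank_fintype_fun_eq_card] at h1
    have h3 : (H.index - 1) * finrank ℂ Y + finrank ℂ Y = H.index * finrank ℂ Y := by
      have : 1 ≤ H.index := Nat.one_le_iff_ne_zero.2 Subgroup.index_ne_zero_of_finite
      rw [← Nat.succ_mul, Nat.succ_eq_add_one, Nat.sub_add_cancel this]
    omega
  let P : (ι → ℂ) →ₗ[ℂ] (ι → ℂ) := Y.subtype ∘ₗ Y.projectionOnto R hcompl
  set π := LinearMap.toMatrix' P with hπ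
  have hπv : ∀ v, π *ᵥ v = P v := fun v => LinearMap.toMatrix'_mulVec P v
  have hP1 : ∀ v ∈ Y, π *ᵥ v = v := fun v hv => by
    rw [hπv]
    show ((Y.projectionOnto R hcompl v : Y) : ι → ℂ) = v
    rw [Submodule.projectionOnto_apply_left hcompl ⟨v, hv⟩]
  have hP0 : ∀ v ∈ R, π *ᵥ v = 0 := fun v hv => by
    rw [hπv]
    show ((Y.projectionOnto R hcompl v : Y) : ι → ℂ) = 0
    rw [(Submodule.projectionOnto_apply_eq_zero_iff hcompl).2 hv]
    rfl
  have hPmem : ∀ v, π *ᵥ v ∈ Y := fun v => by rw [hπv]; exact (Y.projectionOnto R hcompl v).2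
  have hblock : ∀ c, c ≠ c₀ → S c ≤ R := fun c hc =>
    le_biSup S (Finset.mem_erase.2 ⟨hc, Finset.mem_univ _⟩)
  have hext : ∀ A B : Matrix ι ι ℂ, (∀ c, ∀ v ∈ S c, A *ᵥ v = B *ᵥ v) → A = B := by
    intro A B h
    refine Matrix.ext_of_mulVec_single fun i => ?_
    have hle : (⨆ c ∈ (Finset.univ : Finset (G ⧸ H)), S c) ≤
        LinearMap.eqLocus (Matrix.mulVecLin A) (Matrix.mulVecLin B) :=
      iSup₂_le fun c _ v hv => h c v hv
    rw [htop] at hle
    exact hle Submodule.mem_top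
  have hblk : ∀ (c : G ⧸ H) (g : G), ∀ v ∈ S c, ρ g *ᵥ v ∈ S (QuotientGroup.mk (g * c.out)) := by
    intro c g v hv
    rw [← hS, ← img_img]
    exact ⟨v, hv, rfl⟩
  refine ⟨π, ?_, ?_, ?_, ?_, ?_⟩
  · intro h
    obtain ⟨v, hv, hv0⟩ := Submodule.exists_mem_ne_zero_of_ne_bot hne
    have := hP1 v hv
    rw [h, Matrix.zero_mulVec] at this
    exact hv0 this.symm
  · refine hext _ _ fun c v _ => ?_
    rw [← Matrix.mulVec_mulVec, hP1 _ (hPmem v)]
  · intro h hh
    refine hext _ _ fun c v hv => ?_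
    rw [← Matrix.mulVec_mulVec, ← Matrix.mulVec_mulVec]
    rcases eq_or_ne c c₀ with rfl | hc
    · have hv' : v ∈ Y := hY0 ▸ hv
      rw [hP1 _ hv', hP1 _ (hY h hh v hv')]
    · rw [hP0 v (hblock c hc hv), Matrix.mulVec_zero]
      refine hP0 _ (hblock _ ?_ (hblk c h v hv))
      intro he
      apply hc
      rw [show c₀ = QuotientGroup.mk 1 from rfl, QuotientGroup.eq] at he
      rw [← QuotientGroup.out_eq' c]
      refine QuotientGroup.eq.2 ?_
      have h3 : c.out⁻¹ ∈ H := by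
        have : c.out⁻¹ * h⁻¹ ∈ H := by simpa using he
        simpa using H.mul_mem this hh
      simpa using h3
  · intro g hg
    refine hext _ _ fun c v _ => ?_
    rw [← Matrix.mulVec_mulVec, ← Matrix.mulVec_mulVec, Matrix.zero_mulVec]
    refine hP0 _ (hblock _ ?_ (hblk c₀ g _ (hY0 ▸ hPmem v)))
    intro he
    apply hg
    have h0 : c₀.out ∈ H := by
      have := (QuotientGroup.eq).1 (QuotientGroup.out_eq' c₀).symm
      simpa using this
    rw [show c₀ = QuotientGroup.mk 1 from rfl, QuotientGroup.eq] at he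
    have : (g * c₀.out)⁻¹ ∈ H := by simpa using he
    have := H.mul_mem (H.inv_mem this) (H.inv_mem h0)
    simpa [mul_assoc] using this
  · intro _
    refine hext _ _ fun d v hv => ?_
    rw [Matrix.sum_mulVec, Matrix.one_mulVec, Finset.sum_eq_single d]
    · rw [← Matrix.mulVec_mulVec, ← Matrix.mulVec_mulVec]
      obtain ⟨w, hw, hwv⟩ := hv
      rw [Matrix.mulVecLin_apply] at hwv
      have : ρ d.out⁻¹ *ᵥ v = w := by
        rw [← hwv, Matrix.mulVec_mulVec, ← map_mul, inv_mul_cancel, map_one, Matrix.one_mulVec]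
      rw [this, hP1 w hw, hwv]
    · intro c _ hcd
      rw [← Matrix.mulVec_mulVec, ← Matrix.mulVec_mulVec, hP0 _ (hblock _ ?_ (hblk d c.out⁻¹ v hv)),
        Matrix.mulVec_zero]
      intro he
      apply hcd
      rw [show c₀ = QuotientGroup.mk 1 from rfl, QuotientGroup.eq] at he
      rw [← QuotientGroup.out_eq' c, ← QuotientGroup.out_eq' d]
      refine QuotientGroup.eq.2 ?_
      have := H.inv_mem he
      simpa [mul_assoc] using this
    · exact fun h => absurd (Finset.mem_univ _) h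

end Cfsg.Agent.Berger
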