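import Cfsg.Agent.Lib.Berger.Blocks

/-!
# The finite covering group over a homogeneous normal subgroup
-/

set_option autoImplicit false
set_option linter.style.haveILetI false
set_option linter.unusedSectionVars false
set_option linter.unusedVariables false

namespace Cfsg.Agent.Berger

open Matrix Module
open scoped Kronecker

universe u

variable {G : Type u} [Group G] {e d : ℕ}

/-- Pairs `(g, T)` with `T` implementing conjugation by `g` on the image of `θ`, `det T = 1`. -/
def Cov (K : Subgroup G) [K.Normal] (θ : K →* Matrix (Fin d) (Fin d) ℂ) :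
    Subgroup (G × (Matrix (Fin d) (Fin d) ℂ)ˣ) where
  carrier := {p | (p.2 : Matrix (Fin d) (Fin d) ℂ).det = 1 ∧
    ∀ k : K, (p.2 : Matrix (Fin d) (Fin d) ℂ) * θ k =
      θ (MulAut.conjNormal p.1 k) * (p.2 : Matrix (Fin d) (Fin d) ℂ)}
  one_mem' := ⟨by simp, fun k => by simp⟩
  mul_mem' := fun {p q} hp hq => ⟨by simp [hp.1, hq.1], fun k => by
    simp only [Prod.fst_mul, Prod.snd_mul, Units.val_mul, map_mul, MulAut.mul_apply]
    rw [mul_assoc, hq.2, ← mul_assoc, hp.2, mul_assoc]⟩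
  inv_mem' := fun {p} hp => by
    refine ⟨?_, fun k => ?_⟩
    · have h1 : ((p.2⁻¹ : _) : Matrix (Fin d) (Fin d) ℂ).det *
          (p.2 : Matrix (Fin d) (Fin d) ℂ).det = 1 := by
        rw [← Matrix.det_mul, ← Units.val_mul, inv_mul_cancel, Units.val_one, Matrix.det_one]
      rwa [hp.1, mul_one] at h1
    · have h1 := hp.2 (MulAut.conjNormal p.1⁻¹ k)
      rw [← MulAut.mul_apply, ← map_mul, mul_inv_cancel, map_one, MulAut.one_apply] at h1
      simp only [Prod.fst_inv, Prod.snd_inv]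
      calc ((p.2⁻¹ : _) : Matrix (Fin d) (Fin d) ℂ) * θ k
          = ((p.2⁻¹ : _) : Matrix (Fin d) (Fin d) ℂ) * (θ k * (p.2 : Matrix (Fin d) (Fin d) ℂ)) *
              ((p.2⁻¹ : _) : Matrix (Fin d) (Fin d) ℂ) := by
            simp [mul_assoc]
        _ = _ := by rw [← h1]; simp [← mul_assoc]

variable (K : Subgroup G) [K.Normal] (θ : K →* Matrix (Fin d) (Fin d) ℂ)

/-- The projection to `G`. -/
def covFst : Cov K θ →* G := (MonoidHom.fst _ _).comp (Cov K θ).subtype

/-- The projection to the matrices. -/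
def covSnd : Cov K θ →* Matrix (Fin d) (Fin d) ℂ :=
  (Units.coeHom _).comp ((MonoidHom.snd _ _).comp (Cov K θ).subtype)

theorem covSnd_det (p : Cov K θ) : (covSnd K θ p).det = 1 := p.2.1

theorem covSnd_conj (p : Cov K θ) (k : K) :
    covSnd K θ p * θ k = θ (MulAut.conjNormal (covFst K θ p) k) * covSnd K θ p := p.2.2 k

theorem covSnd_inv_mul (p : Cov K θ) : covSnd K θ p⁻¹ * covSnd K θ p = 1 := by
  rw [← map_mul, inv_mul_cancel, map_one]

theorem covSnd_mul_inv (p : Cov K θ) : covSnd K θ p * covSnd K θ p⁻¹ = 1 := by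
  rw [← map_mul, mul_inv_cancel, map_one]

variable [Finite G] (hd : 0 < d) (hθ : NoSub θ)

include hd hθ in
theorem cov_scalar (p q : Cov K θ) (h : covFst K θ p = covFst K θ q) :
    ∃ c : ℂ, c ^ d = 1 ∧ covSnd K θ p = c • covSnd K θ q := by
  haveI : Nonempty (Fin d) := ⟨⟨0, hd⟩⟩
  obtain ⟨c, hc⟩ := schur hθ (x := covSnd K θ q⁻¹ * covSnd K θ p) fun k => by
    have h1 := covSnd_conj K θ p k
    have h2 := covSnd_conj K θ q k
    rw [h] at h1
    rw [mul_assoc, h1, ← mul_assoc, ← mul_assoc]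
    congr 1
    calc covSnd K θ q⁻¹ * θ (MulAut.conjNormal (covFst K θ q) k)
        = covSnd K θ q⁻¹ * (θ (MulAut.conjNormal (covFst K θ q) k) * covSnd K θ q) *
            covSnd K θ q⁻¹ := by
          rw [mul_assoc, mul_assoc, covSnd_mul_inv, mul_one]
      _ = θ k * covSnd K θ q⁻¹ := by rw [← h2, ← mul_assoc, covSnd_inv_mul, one_mul]
  refine ⟨c, ?_, ?_⟩
  · have := congrArg Matrix.det hc
    rw [Matrix.det_mul, covSnd_det, covSnd_det, Matrix.det_smul, Matrix.det_one, Fintype.card_fin,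
      one_mul, mul_one] at this
    exact this.symm
  · have := congrArg (covSnd K θ q * ·) hc
    simpa [← mul_assoc, covSnd_mul_inv] using this

include hd hθ in
theorem cov_finite : Finite (Cov K θ) := by
  classical
  let s : G → (Cov K θ) := fun g =>
    if h : ∃ q : Cov K θ, covFst K θ q = g then h.choose else 1
  have hs : ∀ p : Cov K θ, ∃ c : ℂ, c ^ d = 1 ∧ covSnd K θ p = c • covSnd K θ (s (covFst K θ p)) := by
    intro p
    have h : ∃ q : Cov K θ, covFst K θ q = covFst K θ p := ⟨p, rfl⟩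
    refine cov_scalar K θ hd hθ p _ ?_
    simp only [s, dif_pos h, h.choose_spec]
  choose c hc hcs using hs
  have hf : Set.Finite {z : ℂ | z ^ d = 1} := by
    refine (Polynomial.nthRootsFinset d (1 : ℂ)).finite_toSet.subset fun z hz => ?_
    simpa [Polynomial.mem_nthRootsFinset hd] using hz
  haveI := hf.to_subtype
  refine Finite.of_injective (fun p => ((covFst K θ p, ⟨c p, hc p⟩) : G × {z : ℂ | z ^ d = 1}))
    fun p q h => ?_
  have h1 : covFst K θ p = covFst K θ q := (congrArg Prod.fst h :)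
  have h2 : c p = c q := congrArg (fun x => ((Prod.snd x : {z : ℂ | z ^ d = 1}) : ℂ)) h
  refine Subtype.ext (Prod.ext h1 (Units.ext ?_))
  show covSnd K θ p = covSnd K θ q
  rw [hcs p, hcs q, h1, h2]

include hd hθ in
theorem cov_solvable [Group.IsSolvable G] : Group.IsSolvable (Cov K θ) := by
  haveI : IsMulCommutative (covFst K θ).ker := ⟨⟨fun a b => by
    obtain ⟨x, -, hx⟩ := cov_scalar K θ hd hθ a.1 1 (by rw [a.2, map_one])
    obtain ⟨y, -, hy⟩ := cov_scalar K θ hd hθ b.1 1 (by rw [b.2, map_one])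
    refine Subtype.ext (Subtype.ext (Prod.ext ?_ (Units.ext ?_)))
    · show covFst K θ a.1 * covFst K θ b.1 = covFst K θ b.1 * covFst K θ a.1
      rw [a.2, b.2]
    · show covSnd K θ a.1 * covSnd K θ b.1 = covSnd K θ b.1 * covSnd K θ a.1
      rw [hx, hy, map_one, smul_mul_smul_comm, smul_mul_smul_comm, mul_comm x]⟩⟩
  haveI : Group.IsSolvable (covFst K θ).ker := Group.isSolvable_of_comm mul_comm'
  exact Group.isSolvable_of_ker_le_range (covFst K θ).ker.subtype (covFst K θ)
    (by rw [Subgroup.range_subtype])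

variable (ρ : G →* Matrix (Fin e × Fin d) (Fin e × Fin d) ℂ) (he : 0 < e)
  (hK : ∀ k : K, ρ k = onek (Fin e) (θ k))

include hd hθ he hK in
theorem cov_surjective : Function.Surjective (covFst K θ) := by
  intro g
  haveI : Nonempty (Fin d) := ⟨⟨0, hd⟩⟩
  obtain ⟨P, Q, hPQ, hQP, hint⟩ := exists_intertwiner θ
    (θ.comp (MulAut.conjNormal g).toMonoidHom) fun k => by
    have h1 : (ρ (MulAut.conjNormal g k : K)).trace = (ρ k).trace := by
      rw [MulAut.conjNormal_apply, map_mul, map_mul, Matrix.trace_mul_cycle, ← map_mul,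
        inv_mul_cancel, map_one, one_mul]
    rw [hK, hK, onek_apply, onek_apply, Matrix.trace_kronecker, Matrix.trace_kronecker,
      Matrix.trace_one, Fintype.card_fin] at h1
    exact (mul_left_cancel₀ (Nat.cast_ne_zero.2 he.ne') h1).symm
  have hdet : P.det * Q.det = 1 := by rw [← Matrix.det_mul, hPQ, Matrix.det_one]
  obtain ⟨c, hc⟩ := IsAlgClosed.exists_pow_nat_eq Q.det hd
  have hc0 : c ≠ 0 := fun h => by
    rw [h, zero_pow hd.ne'] at hc
    rw [← hc, mul_zero] at hdet
    exact zero_ne_one hdet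
  let T : (Matrix (Fin d) (Fin d) ℂ)ˣ := ⟨c • P, c⁻¹ • Q, by
    rw [smul_mul_smul_comm, hPQ, mul_inv_cancel₀ hc0, one_smul], by
    rw [smul_mul_smul_comm, hQP, inv_mul_cancel₀ hc0, one_smul]⟩
  refine ⟨⟨(g, T), ?_, fun k => ?_⟩, rfl⟩
  · show (c • P).det = 1
    rw [Matrix.det_smul, Fintype.card_fin, hc, mul_comm, hdet]
  · show (c • P) * θ k = θ (MulAut.conjNormal g k) * (c • P)
    rw [smul_mul_assoc, hint k, mul_smul_comm]
    rfl

include hd hθ in
/-- The commutant of `1 ⊗ θ` consists of the matrices `Z ⊗ 1`. -/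
theorem exists_of_commute (x : Matrix (Fin e × Fin d) (Fin e × Fin d) ℂ)
    (hx : ∀ k : K, x * onek (Fin e) (θ k) = onek (Fin e) (θ k) * x) :
    ∃ Z : Matrix (Fin e) (Fin e) ℂ, x = Z ⊗ₖ (1 : Matrix (Fin d) (Fin d) ℂ) := by
  haveI : Nonempty (Fin d) := ⟨⟨0, hd⟩⟩
  have h : ∀ i j, ∃ c : ℂ, (Matrix.of fun a b => x (i, a) (j, b)) = c • 1 := fun i j => by
    refine schur hθ fun k => ?_
    ext a b
    have := congrFun (congrFun (hx k) (i, a)) (j, b)
    simp only [onek_apply, Matrix.mul_apply, Matrix.kroneckerMap_apply, Fintype.sum_prod_type,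
      Matrix.one_apply, ite_mul, mul_ite, one_mul, zero_mul, mul_zero] at this
    rw [Finset.sum_eq_single j, Finset.sum_eq_single i] at this
    · simpa [Matrix.mul_apply] using this
    all_goals first
      | (intro z _ hz; simp [hz, Ne.symm hz])
      | (intro hz; exact absurd (Finset.mem_univ _) hz)
  choose c hc using h
  refine ⟨Matrix.of c, ?_⟩
  ext ⟨i, a⟩ ⟨j, b⟩
  have := congrFun (congrFun (hc i j) a) b
  simp only [Matrix.of_apply, Matrix.smul_apply, smul_eq_mul] at this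
  rw [this, Matrix.kroneckerMap_apply, Matrix.of_apply]

include hd in
theorem kron_one_injective {Z Z' : Matrix (Fin e) (Fin e) ℂ}
    (h : Z ⊗ₖ (1 : Matrix (Fin d) (Fin d) ℂ) = Z' ⊗ₖ (1 : Matrix (Fin d) (Fin d) ℂ)) : Z = Z' := by
  ext i j
  have := congrFun (congrFun h (i, ⟨0, hd⟩)) (j, ⟨0, hd⟩)
  simpa [Matrix.kroneckerMap_apply] using this

/-- `Z ↦ Z ⊗ 1`. -/
noncomputable def kone (d : ℕ) :
    Matrix (Fin e) (Fin e) ℂ →ₐ[ℂ] Matrix (Fin e × Fin d) (Fin e × Fin d) ℂ :=
  AlgHom.ofLinearMap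
    { toFun := fun x => x ⊗ₖ (1 : Matrix (Fin d) (Fin d) ℂ)
      map_add' := fun x y => Matrix.add_kronecker _ _ _
      map_smul' := fun c x => Matrix.smul_kronecker _ _ _ }
    (Matrix.one_kronecker_one)
    (fun x y => by
      show (x * y) ⊗ₖ (1 : Matrix (Fin d) (Fin d) ℂ) = (x ⊗ₖ 1) * (y ⊗ₖ 1)
      rw [← Matrix.mul_kronecker_mul, Matrix.one_mul])

theorem kone_apply (x : Matrix (Fin e) (Fin e) ℂ) :
    kone d x = x ⊗ₖ (1 : Matrix (Fin d) (Fin d) ℂ) := rfl

theorem kone_mul_onek (z : Matrix (Fin e) (Fin e) ℂ) (x : Matrix (Fin d) (Fin d) ℂ) :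
    kone d z * onek (Fin e) x = z ⊗ₖ x := by
  rw [kone_apply, onek_apply, ← Matrix.mul_kronecker_mul, mul_one, one_mul]

theorem onek_mul_kone (z : Matrix (Fin e) (Fin e) ℂ) (x : Matrix (Fin d) (Fin d) ℂ) :
    onek (Fin e) x * kone d z = z ⊗ₖ x := by
  rw [kone_apply, onek_apply, ← Matrix.mul_kronecker_mul, mul_one, one_mul]

include hd hθ hK in
theorem exists_xi : ∃ ξ : Cov K θ →* Matrix (Fin e) (Fin e) ℂ,
    ∀ p, ρ (covFst K θ p) = ξ p ⊗ₖ covSnd K θ p := by
  have h : ∀ p : Cov K θ, ∃ Z, ρ (covFst K θ p) * onek (Fin e) (covSnd K θ p⁻¹) = kone d Z := by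
    intro p
    refine exists_of_commute K θ hd hθ _ fun k => ?_
    have h1 : covSnd K θ p⁻¹ * θ k =
        θ (MulAut.conjNormal (covFst K θ p⁻¹) k) * covSnd K θ p⁻¹ := covSnd_conj K θ p⁻¹ k
    rw [mul_assoc, ← map_mul, h1, map_mul, ← mul_assoc, ← mul_assoc]
    congr 1
    rw [← hK, ← hK, ← map_mul, ← map_mul, MulAut.conjNormal_apply]
    congr 1
    rw [map_inv]
    group
  choose Z hZ using h
  have hρ : ∀ p, ρ (covFst K θ p) = Z p ⊗ₖ covSnd K θ p := fun p => by
    rw [← kone_mul_onek, ← hZ, mul_assoc, ← map_mul, covSnd_inv_mul, map_one, mul_one]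
  refine ⟨{ toFun := Z, map_one' := kron_one_injective hd ?_,
            map_mul' := fun p q => kron_one_injective hd ?_ }, hρ⟩
  · rw [← kone_apply, ← kone_apply, ← hZ]
    simp only [map_one, inv_one, one_mul]
  rw [← kone_apply, ← kone_apply, ← hZ, map_mul (covFst K θ), map_mul ρ, hρ p, hρ q, ← Matrix.mul_kronecker_mul,
    ← map_mul (covSnd K θ), onek_apply, ← Matrix.mul_kronecker_mul, mul_one, ← map_mul,
    mul_inv_cancel, map_one, kone_apply]

variable (ξ : Cov K θ →* Matrix (Fin e) (Fin e) ℂ)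
  (hξ : ∀ p, ρ (covFst K θ p) = ξ p ⊗ₖ covSnd K θ p)

include hd hθ he hK hξ in
theorem noSub_xi (hρ : NoSub ρ) : NoSub ξ := by
  intro S hS
  let W : Submodule ℂ (Fin e × Fin d → ℂ) :=
    { carrier := {v | ∀ a, (fun i => v (i, a)) ∈ S}
      add_mem' := fun {u v} hu hv a => S.add_mem (hu a) (hv a)
      zero_mem' := fun a => S.zero_mem
      smul_mem' := fun c v hv a => S.smul_mem c (hv a) }
  have hW : ∀ g, ∀ v ∈ W, ρ g *ᵥ v ∈ W := by
    intro g v hv a
    obtain ⟨p, rfl⟩ := cov_surjective K θ hd hθ ρ he hK g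
    have : (fun i => (ρ (covFst K θ p) *ᵥ v) (i, a)) =
        ∑ b, covSnd K θ p a b • (ξ p *ᵥ fun j => v (j, b)) := by
      funext i
      simp only [hξ, Matrix.mulVec, dotProduct, Matrix.kroneckerMap_apply, Fintype.sum_prod_type,
        Finset.sum_apply, Pi.smul_apply, smul_eq_mul, Finset.mul_sum]
      rw [Finset.sum_comm]
      exact Finset.sum_congr rfl fun b _ => Finset.sum_congr rfl fun j _ => by ring
    rw [this]
    exact Submodule.sum_mem _ fun b _ => S.smul_mem _ (hS p _ (hv b))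
  rcases hρ W hW with h | h
  · left
    refine (Submodule.eq_bot_iff _).2 fun s hs => ?_
    have h1 : (fun x : Fin e × Fin d => if x.2 = ⟨0, hd⟩ then s x.1 else 0) ∈ W := by
      intro a
      by_cases ha : a = ⟨0, hd⟩
      · simp only [ha, if_true]; exact hs
      · simp only [ha, if_false]; exact S.zero_mem
    rw [h, Submodule.mem_bot] at h1
    funext i
    simpa using congrFun h1 (i, ⟨0, hd⟩)
  · right
    refine (Submodule.eq_top_iff').2 fun s => ?_
    have h1 : (fun x : Fin e × Fin d => s x.1) ∈ W := h ▸ Submodule.mem_top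
    exact h1 ⟨0, hd⟩

include hd hθ he hK hξ in
theorem homog_xi (hρ : ∀ N : Subgroup G, N.Normal → Homog ρ N) (N : Subgroup (Cov K θ))
    (hN : N.Normal) : Homog ξ N := by
  haveI := hN
  haveI : Nonempty (Fin d) := ⟨⟨0, hd⟩⟩
  haveI hNn : (N.map (covFst K θ)).Normal := hN.map _ (cov_surjective K θ hd hθ ρ he hK)
  set M := N.map (covFst K θ) ⊔ K
  intro z hz hcom
  have htop : ∀ x : Matrix (Fin d) (Fin d) ℂ, onek (Fin e) x ∈ algOf ρ M := fun x => by
    have hx : x ∈ algOf θ ⊤ := algOf_top_eq_top hθ ▸ Submodule.mem_top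
    have h := map_algOf K.subtype ρ θ (onek (Fin e)).toLinearMap ⊤ (fun n _ => by
      show onek (Fin e) (θ n) ∈ _
      rw [← hK]
      exact apply_mem_algOf ρ ⟨n, Subgroup.mem_top n, rfl⟩) hx
    refine algOf_mono ρ ?_ h
    rintro _ ⟨n, -, rfl⟩
    exact Subgroup.mem_sup_right n.2
  have hmem : kone d z ∈ algOf ρ M := by
    have : algOf ξ N ≤ (algOf ρ M).comap (kone d).toLinearMap := Submodule.span_le.2 (by
      rintro _ ⟨p, hp, rfl⟩
      show kone d (ξ p) ∈ algOf ρ M
      have h1 : kone d (ξ p) = ρ (covFst K θ p) * onek (Fin e) (covSnd K θ p⁻¹) := by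
        rw [hξ, onek_apply, ← Matrix.mul_kronecker_mul, mul_one, covSnd_mul_inv, kone_apply]
      rw [h1]
      exact mul_mem_algOf ρ (apply_mem_algOf ρ (Subgroup.mem_sup_left ⟨p, hp, rfl⟩)) (htop _))
    exact this hz
  obtain ⟨c, hc⟩ := hρ M inferInstance _ hmem fun g hg => by
    let C : Subgroup G :=
      { carrier := {g | kone d z * ρ g = ρ g * kone d z}
        one_mem' := by simp
        mul_mem' := fun {a b} ha hb => by
          simp only [Set.mem_ofPred_eq] at ha hb ⊢
          rw [map_mul, ← mul_assoc, ha, mul_assoc, hb, mul_assoc]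
        inv_mem' := fun {a} ha => by
          simp only [Set.mem_ofPred_eq] at ha ⊢
          calc kone d z * ρ a⁻¹ = ρ a⁻¹ * (ρ a * kone d z) * ρ a⁻¹ := by
                rw [← mul_assoc, ← map_mul, inv_mul_cancel, map_one, one_mul]
            _ = _ := by
                rw [← ha, mul_assoc, mul_assoc, ← map_mul, mul_inv_cancel, map_one, mul_one] }
    have hle : M ≤ C := sup_le (by
      rintro _ ⟨p, hp, rfl⟩
      show kone d z * ρ (covFst K θ p) = ρ (covFst K θ p) * kone d z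
      rw [hξ, kone_apply, ← Matrix.mul_kronecker_mul, ← Matrix.mul_kronecker_mul, hcom p hp, one_mul,
        mul_one]) (fun k hk => by
      show kone d z * ρ k = ρ k * kone d z
      rw [show ρ k = ρ ((⟨k, hk⟩ : K) : G) from rfl, hK, kone_mul_onek, onek_mul_kone])
    exact hle hg
  exact ⟨c, kron_one_injective hd (by
    rw [← kone_apply, hc, ← map_one (kone d), ← map_smul, kone_apply])⟩

end Cfsg.Agent.Berger
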