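import Cfsg.Agent.Lib.Berger.Reduced
import Cfsg.Agent.Lib.Solvable.Basic

/-!
# Berger's theorem: solvable quasi-primitive matrix groups are primitive
-/

set_option autoImplicit false
set_option linter.style.haveILetI false
set_option linter.unusedSectionVars false
set_option linter.unusedVariables false
set_option maxHeartbeats 1600000

namespace Cfsg.Agent.Berger

open Matrix Module
open scoped Kronecker ComplexConjugate

universe u

variable {G : Type u} [Group G]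

theorem algOf_transport {ι κ : Type} [Fintype ι] [DecidableEq ι] [Fintype κ] [DecidableEq κ]
    (ρ : G →* Matrix ι ι ℂ) (Φ : Matrix ι ι ℂ ≃ₐ[ℂ] Matrix κ κ ℂ) (N : Subgroup G) :
    algOf ((MonoidHomClass.toMonoidHom Φ).comp ρ) N = (algOf ρ N).map Φ.toLinearMap := by
  rw [algOf, algOf, Submodule.map_span, ← Set.image_comp]
  rfl

theorem noSub_transport {ι κ : Type} [Fintype ι] [DecidableEq ι] [Fintype κ] [DecidableEq κ]
    [Nonempty ι] {ρ : G →* Matrix ι ι ℂ} (h : NoSub ρ) (Φ : Matrix ι ι ℂ ≃ₐ[ℂ] Matrix κ κ ℂ) :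
    NoSub ((MonoidHomClass.toMonoidHom Φ).comp ρ) := by
  refine noSub_of_algOf ?_
  rw [algOf_transport, algOf_top_eq_top h, Submodule.map_top, LinearMap.range_eq_top]
  exact Φ.surjective

theorem homog_transport {ι κ : Type} [Fintype ι] [DecidableEq ι] [Fintype κ] [DecidableEq κ]
    {ρ : G →* Matrix ι ι ℂ} {N : Subgroup G} (h : Homog ρ N)
    (Φ : Matrix ι ι ℂ ≃ₐ[ℂ] Matrix κ κ ℂ) :
    Homog ((MonoidHomClass.toMonoidHom Φ).comp ρ) N := by
  intro z hz hcom
  rw [algOf_transport] at hz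
  obtain ⟨y, hy, rfl⟩ := hz
  obtain ⟨c, rfl⟩ := h y hy fun n hn => by
    apply Φ.injective
    rw [map_mul, map_mul]
    exact hcom n hn
  exact ⟨c, show Φ (c • 1) = c • 1 by rw [map_smul, map_one]⟩

/-- A normal block stabiliser is everything. -/
theorem normal_case [Finite G] {ι : Type} [Fintype ι] [DecidableEq ι] [Nonempty ι]
    (ρ : G →* Matrix ι ι ℂ) (hirr : NoSub ρ) (H : Subgroup G) [H.Normal] (hhom : Homog ρ H)
    (π : Matrix ι ι ℂ) (hπ0 : π ≠ 0) (hπi : π * π = π) (hπH : ∀ h ∈ H, π * ρ h = ρ h * π)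
    (hπs : ∀ [Fintype (G ⧸ H)], ∑ c : G ⧸ H, ρ c.out * π * ρ c.out⁻¹ = 1) : H = ⊤ := by
  classical
  haveI : Fintype G := Fintype.ofFinite G
  haveI : Fintype (G ⧸ H) := Fintype.ofFinite _
  obtain ⟨e, k, σ, Φ, he, hk, hcard, hσ, htr, hΦ⟩ := exists_form ρ H hhom
  haveI : Nonempty (Fin k) := ⟨⟨0, hk⟩⟩
  haveI : Nonempty (Fin e) := ⟨⟨0, he⟩⟩
  obtain ⟨Z, hZ⟩ := exists_of_commute H σ hk hσ (Φ π) fun x => by
    rw [← hΦ, ← map_mul, ← map_mul, hπH x x.2]
  have hkinj : Function.Injective (kone (e := e) k) := fun a b h => kron_one_injective hk h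
  have hZi : Z * Z = Z := hkinj (by rw [map_mul, kone_apply, ← hZ, ← map_mul, hπi])
  have hZ0 : Z ≠ 0 := fun h => hπ0 (Φ.injective (by rw [hZ, ← kone_apply, h, map_zero, map_zero]))
  have hcnt : H.index * finrank ℂ (LinearMap.range (Matrix.mulVecLin Z)) = e := by
    have h1 := congrArg (fun x => (Φ x).trace) hπs
    simp only [map_sum, map_mul, Matrix.trace_sum, map_one] at h1
    have h2 : ∀ c : G ⧸ H, (Φ (ρ c.out) * Φ π * Φ (ρ c.out⁻¹)).trace =
        ((finrank ℂ (LinearMap.range (Matrix.mulVecLin Z)) * k : ℕ) : ℂ) := by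
      intro c
      rw [Matrix.trace_mul_cycle, ← map_mul Φ (ρ c.out⁻¹), ← map_mul ρ, inv_mul_cancel, map_one,
        map_one, one_mul, hZ, Matrix.trace_kronecker, natCast_trace_idempotent hZi,
        Matrix.trace_one, Fintype.card_fin, Nat.cast_mul]
    rw [Finset.sum_congr rfl fun c _ => h2 c, Finset.sum_const, Finset.card_univ, nsmul_eq_mul,
      Matrix.trace_one, Fintype.card_prod, Fintype.card_fin, Fintype.card_fin, ← Nat.cast_mul,
      Nat.cast_inj, ← Nat.card_eq_fintype_card, ← Subgroup.index_eq_card, ← mul_assoc] at h1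
    exact Nat.eq_of_mul_eq_mul_right hk h1
  have hpos : 0 < finrank ℂ (LinearMap.range (Matrix.mulVecLin Z)) := by
    rw [Nat.pos_iff_ne_zero, ne_eq, Submodule.finrank_eq_zero, LinearMap.range_eq_bot]
    intro h
    apply hZ0
    refine Matrix.ext_of_mulVec_single fun i => ?_
    rw [← Matrix.mulVecLin_apply, h, LinearMap.zero_apply, Matrix.zero_mulVec]
  have hnorm : ∀ {A : Type u} [Group A] [Fintype A] (f : A → ℂ) (m : ℕ),
      Cfsg.classInner f f = (m : ℂ) → ∑ x, Complex.normSq (f x) = ((m * Nat.card A : ℕ) : ℝ) := by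
    intro A _ _ f m h
    have hA : (Nat.card A : ℂ) ≠ 0 := Nat.cast_ne_zero.2 Nat.card_pos.ne'
    rw [Cfsg.classInner] at h
    simp only [Complex.mul_conj] at h
    rw [inv_mul_eq_iff_eq_mul₀ hA, ← Complex.ofReal_sum] at h
    apply Complex.ofReal_injective
    rw [h, Complex.ofReal_natCast, Nat.cast_mul, mul_comm]
  have hG := hnorm (fun g => (ρ g).trace) 1 (by
    rw [Char.classInner_self_irr (isIrr_trace hirr), Nat.cast_one])
  have hH := hnorm (fun x : H => (ρ x).trace) (e * e) (by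
    have : (fun x : H => (ρ x).trace) = (e : ℂ) • fun x : H => (σ x).trace := funext fun x => htr x
    rw [this, Char.classInner_smul_left, Char.classInner_smul_right,
      Char.classInner_self_irr (isIrr_trace hσ)]
    simp)
  have hle : ∑ x : H, Complex.normSq (ρ x).trace ≤ ∑ g, Complex.normSq (ρ g).trace := by
    refine le_of_eq_of_le ?_ (Finset.sum_le_univ_sum_of_nonneg
      (s := (Finset.univ : Finset H).map (Function.Embedding.subtype _)) fun g => Complex.normSq_nonneg _)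
    rw [Finset.sum_map]
    rfl
  rw [hG, hH, Nat.cast_le, one_mul, ← Subgroup.card_mul_index H, mul_comm (Nat.card H)] at hle
  have h1 : e * e ≤ H.index := Nat.le_of_mul_le_mul_right hle Nat.card_pos
  have h2 : H.index ≤ e := hcnt ▸ Nat.le_mul_of_pos_right _ hpos
  have h3 : H.index * H.index ≤ H.index := (Nat.mul_le_mul h2 h2).trans h1
  have h4 : 0 < H.index := Nat.pos_of_ne_zero Subgroup.index_ne_zero_of_finite
  rw [← Subgroup.index_eq_one]
  nlinarith

theorem noImprim : ∀ n, NoImprim.{u} n := by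
  intro n
  induction n using Nat.strong_induction_on with
  | _ n ih =>
  intro G _ _ _ ι _ _ ρ hn hn0 hirr hqp H0 hH0 Y0 hY00 hY0 hdim0
  classical
  haveI : Nonempty ι := Fintype.card_pos_iff.1 (hn ▸ hn0)
  obtain ⟨H, hHc, hle0⟩ := (eq_top_or_exists_le_coatom H0).resolve_left hH0
  obtain ⟨Y, hYne, hY, hdim⟩ := exists_larger ρ hle0 hY00 hY0
  obtain ⟨π, hπ0, hπi, hπH, hπg, hπs⟩ :=
    exists_projection ρ hirr hYne hY ((hdim.trans hdim0).trans_eq hn.symm)
  by_cases hHn : H.Normal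
  · exact hHc.1 (normal_case ρ hirr H (hqp H hHn) π hπ0 hπi hπH hπs)
  -- the core and a chief factor over it
  haveI hLn : H.normalCore.Normal := Subgroup.normalCore_normal H
  obtain ⟨L, hL⟩ : ∃ L, L = H.normalCore := ⟨_, rfl⟩
  haveI hLn : L.Normal := hL ▸ Subgroup.normalCore_normal H
  have hLH : L ≤ H := hL ▸ Subgroup.normalCore_le H
  have hcore : ∀ N : Subgroup G, N.Normal → N ≤ H → N ≤ L := fun N hN h => by
    haveI := hN
    exact hL ▸ Subgroup.normal_le_normalCore.2 h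
  let q := QuotientGroup.mk' L
  have hq : Function.Surjective q := QuotientGroup.mk'_surjective L
  have hker : ∀ x, q x = 1 ↔ x ∈ L := fun x => QuotientGroup.eq_one_iff x
  have hLbot : L = (⊥ : Subgroup (G ⧸ L)).comap q := by
    rw [MonoidHom.comap_bot, QuotientGroup.ker_mk']
  have hQne : (⊤ : Subgroup (G ⧸ L)) ≠ ⊥ := fun h => hHc.1 (eq_top_iff.2 fun x _ => hLH ((hker x).1 (by
    rw [← Subgroup.mem_bot, ← h]; exact Subgroup.mem_top _)))
  obtain ⟨M0, r, hr, hM0n, hM0ne, -, hM0c, -, hM0p, hM0min⟩ :=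
    SolvBasic.exists_minimal_normal_abelian (N := (⊤ : Subgroup (G ⧸ L))) inferInstance hQne
  haveI := hM0n
  haveI := hM0c
  set K := M0.comap q with hKdef
  haveI hKn : K.Normal := hM0n.comap q
  have hLK : L ≤ K := fun x hx => by
    show q x ∈ M0
    rw [(hker x).2 hx]
    exact M0.one_mem
  have hKnle : ¬ K ≤ L := fun h => hM0ne ((Subgroup.eq_bot_iff_forall _).2 fun y hy => by
    obtain ⟨x, rfl⟩ := hq y
    exact (hker x).2 (h hy))
  have hKnleH : ¬ K ≤ H := fun h => hKnle (hcore K hKn h)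
  have hsup : K ⊔ H = ⊤ := hHc.2 _ (lt_of_le_of_ne le_sup_right fun h => hKnleH (h ▸ le_sup_left))
  have hcomm : ∀ a ∈ K, ∀ b ∈ K, a⁻¹ * b * a * b⁻¹ ∈ L := fun a ha b hb => by
    rw [← hker]
    have h1 : q a * q b = q b * q a := congrArg Subtype.val (mul_comm' (⟨q a, ha⟩ : M0) ⟨q b, hb⟩)
    rw [map_mul, map_mul, map_mul, map_inv, map_inv, mul_assoc (q a)⁻¹ (q b) (q a), ← h1,
      inv_mul_cancel_left, mul_inv_cancel]
  have hnormal : ∀ D : Subgroup G, (∀ h ∈ H, ∀ x ∈ D, h * x * h⁻¹ ∈ D) →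
      (∀ k ∈ K, ∀ x ∈ D, k * x * k⁻¹ ∈ D) → D.Normal := by
    refine fun D h1 h2 => ⟨fun x hx g => ?_⟩
    obtain ⟨k, hk, h, hh, rfl⟩ :=
      Subgroup.mem_sup_of_normal_left.mp (hsup ▸ Subgroup.mem_top g : g ∈ K ⊔ H)
    rw [show k * h * x * (k * h)⁻¹ = k * (h * x * h⁻¹) * k⁻¹ by group]
    exact h2 k hk _ (h1 h hh x hx)
  have hKH : ∀ x ∈ K, x ∈ H → x ∈ L := by
    have hD : (K ⊓ H).Normal := hnormal _ (fun h hh x hx => ⟨hKn.conj_mem x hx.1 h,
        H.mul_mem (H.mul_mem hh hx.2) (H.inv_mem hh)⟩) fun k hk x hx => by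
      rw [show k * x * k⁻¹ = x * (x⁻¹ * k * x * k⁻¹) by group]
      have h3 := hcomm x hx.1 k hk
      exact (K ⊓ H).mul_mem hx ⟨hLK h3, hLH h3⟩
    exact fun x h1 h2 => hcore _ hD inf_le_right ⟨h1, h2⟩
  let C : Subgroup G := H ⊓ (Subgroup.centralizer (M0 : Set (G ⧸ L))).comap q
  have hC : C ≤ L := by
    refine hcore C (hnormal C (fun h hh x hx => ?_) fun k hk x hx => ?_) inf_le_left
    · haveI : (Subgroup.centralizer (M0 : Set (G ⧸ L))).Normal := inferInstance
      exact ⟨H.mul_mem (H.mul_mem hh hx.1) (H.inv_mem hh),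
        ((inferInstance : (Subgroup.centralizer (M0 : Set (G ⧸ L))).Normal).comap q).conj_mem x hx.2 h⟩
    · rw [show k * x * k⁻¹ = x * (x⁻¹ * k * x * k⁻¹) by group]
      have h3 : x⁻¹ * k * x * k⁻¹ ∈ L := by
        rw [← hker]
        have h1 : q k * q x = q x * q k := Subgroup.mem_centralizer_iff.1 hx.2 (q k) hk
        rw [map_mul, map_mul, map_mul, map_inv, map_inv, mul_assoc (q x)⁻¹ (q k) (q x), h1,
          inv_mul_cancel_left, mul_inv_cancel]
      refine C.mul_mem hx ⟨hLH h3, ?_⟩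
      show q _ ∈ Subgroup.centralizer _
      rw [(hker _).2 h3]
      exact Subgroup.one_mem _
  set Hq := H.map q with hHq
  have hHqne : (⊤ : Subgroup Hq) ≠ ⊥ := fun h => hHn (by
    have : H ≤ L := fun x hx => by
      have hx' : (⟨q x, x, hx, rfl⟩ : Hq) ∈ (⊥ : Subgroup Hq) := h ▸ Subgroup.mem_top _
      exact (hker x).1 (congrArg Subtype.val (Subgroup.mem_bot.1 hx'))
    exact le_antisymm hLH this ▸ hLn)
  obtain ⟨M1, t, ht, hM1n, hM1ne, -, -, -, hM1p, -⟩ :=
    SolvBasic.exists_minimal_normal_abelian (N := (⊤ : Subgroup Hq)) inferInstance hHqne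
  set M2 := M1.map Hq.subtype with hM2
  have hM2p : IsPGroup t M2 := hM1p.map _
  have hM2le : M2 ≤ Hq := Subgroup.map_subtype_le M1
  have hM2ne : M2 ≠ ⊥ := fun h => hM1ne ((Subgroup.map_eq_bot_iff_of_injective M1 Hq.subtype_injective).1 h)
  have hM2n : ∀ y ∈ Hq, ∀ m ∈ M2, y * m * y⁻¹ ∈ M2 := by
    rintro y hy _ ⟨m, hm, rfl⟩
    exact ⟨_, hM1n.conj_mem m hm ⟨y, hy⟩, rfl⟩
  set M := M2.comap q with hMdef
  have hLM : L ≤ M := fun x hx => by
    show q x ∈ M2
    rw [(hker x).2 hx]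
    exact M2.one_mem
  have hMH : M ≤ H := fun x hx => by
    obtain ⟨y, hy, hxy⟩ := hM2le hx
    have : y⁻¹ * x ∈ L := (hker _).1 (by rw [map_mul, map_inv, hxy, inv_mul_cancel])
    simpa using H.mul_mem hy (hLH this)
  have hMn : ∀ h ∈ H, ∀ m ∈ M, h * m * h⁻¹ ∈ M := fun h hh m hm => by
    show q _ ∈ M2
    rw [map_mul, map_mul, map_inv]
    exact hM2n _ ⟨h, hh, rfl⟩ _ hm
  have hML : ¬ M ≤ L := fun h => hM2ne ((Subgroup.eq_bot_iff_forall _).2 fun y hy => by
    obtain ⟨x, rfl⟩ := hq y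
    exact (hker x).2 (h hy))
  have hcen : ∀ m ∈ M, (∀ k ∈ K, m * k * m⁻¹ * k⁻¹ ∈ L) → m ∈ L := fun m hm h => by
    refine hC ⟨hMH hm, Subgroup.mem_centralizer_iff.2 fun z hz => ?_⟩
    obtain ⟨k, rfl⟩ := hq z
    have h1 := (hker _).2 (h k hz)
    rw [map_mul, map_mul, map_mul, map_inv, map_inv, mul_inv_eq_one, mul_inv_eq_iff_eq_mul] at h1
    exact h1.symm
  have hrel : ∀ S : Subgroup (G ⧸ L), L.relIndex (S.comap q) = Nat.card S := fun S =>
    calc L.relIndex (S.comap q)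
        = ((⊥ : Subgroup (G ⧸ L)).comap q).relIndex (S.comap q) :=
          congrArg (fun X : Subgroup G => X.relIndex (S.comap q)) hLbot
      _ = Nat.card S := by
          rw [Subgroup.relIndex_comap, Subgroup.map_comap_eq_self_of_surjective hq,
            Subgroup.relIndex_bot_left]
  have hM0card : L.relIndex K = Nat.card M0 := hrel M0
  have hM2card : L.relIndex M = Nat.card M2 := hrel M2
  haveI : Fact r.Prime := ⟨hr⟩
  haveI : Fact t.Prime := ⟨ht⟩
  have hrt : r ≠ t := by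
    rintro rfl
    obtain ⟨a, ha⟩ := IsPGroup.iff_card.1 hM0p
    have ha0 : a ≠ 0 := fun h => hM0ne (Subgroup.card_eq_one.1 (by rw [ha, h, pow_zero]))
    letI : MulAction M2 M0 := MulAction.compHom M0 ((MulAut.conjNormal (H := M0)).comp M2.subtype)
    have hsmul : ∀ (m : M2) (x : M0), ((m • x : M0) : G ⧸ L) = (m : G ⧸ L) * x * (m : G ⧸ L)⁻¹ :=
      fun m x => MulAut.conjNormal_apply _ _
    obtain ⟨b, hb, hb1⟩ := hM2p.exists_fixed_point_of_prime_dvd_card_of_fixed_point M0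
      (ha ▸ dvd_pow_self r ha0) (a := 1) fun m => Subtype.ext (by simp [hsmul])
    let F : Subgroup (G ⧸ L) := M0 ⊓ Subgroup.centralizer (M2 : Set (G ⧸ L))
    have hbF : (b : G ⧸ L) ∈ F := ⟨b.2, Subgroup.mem_centralizer_iff.2 fun m hm => by
      have h1 := congrArg Subtype.val (hb ⟨m, hm⟩)
      rw [hsmul, mul_inv_eq_iff_eq_mul] at h1
      exact h1⟩
    have hFn : F.Normal := by
      refine ⟨fun x hx y => ?_⟩
      obtain ⟨g, rfl⟩ := hq y
      obtain ⟨k, hk, h, hh, rfl⟩ :=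
        Subgroup.mem_sup_of_normal_left.mp (hsup ▸ Subgroup.mem_top g : g ∈ K ⊔ H)
      have h1 : q h * x * (q h)⁻¹ ∈ F := by
        refine ⟨hM0n.conj_mem x hx.1 _, Subgroup.mem_centralizer_iff.2 fun m hm => ?_⟩
        have h2 : (q h)⁻¹ * m * q h ∈ M2 := by
          simpa using hM2n (q h)⁻¹ (Hq.inv_mem ⟨h, hh, rfl⟩) m hm
        have h3 := Subgroup.mem_centralizer_iff.1 hx.2 _ h2
        calc m * (q h * x * (q h)⁻¹) = q h * ((q h)⁻¹ * m * q h * x) * (q h)⁻¹ := by group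
          _ = q h * (x * ((q h)⁻¹ * m * q h)) * (q h)⁻¹ := by rw [h3]
          _ = q h * x * (q h)⁻¹ * m := by group
      rw [map_mul, show q k * q h * x * (q k * q h)⁻¹ = q k * (q h * x * (q h)⁻¹) * (q k)⁻¹ by group]
      have h4 : q k * (q h * x * (q h)⁻¹) = q h * x * (q h)⁻¹ * q k :=
        congrArg Subtype.val (mul_comm' (⟨q k, hk⟩ : M0) ⟨_, h1.1⟩)
      rwa [h4, mul_inv_cancel_right]
    rcases hM0min F hFn inf_le_left with h | h
    · rw [h, Subgroup.mem_bot] at hbF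
      exact hb1 (Subtype.ext hbF.symm)
    · refine hML fun m hm => hC ⟨hMH hm, Subgroup.mem_centralizer_iff.2 fun z hz => ?_⟩
      have hzF : z ∈ F := h.symm ▸ hz
      exact (Subgroup.mem_centralizer_iff.1 hzF.2 (q m) hm).symm
  have hcop : Nat.Coprime (L.relIndex K) (L.relIndex M) := by
    obtain ⟨a, ha⟩ := IsPGroup.iff_card.1 hM0p
    obtain ⟨b, hb⟩ := IsPGroup.iff_card.1 hM2p
    rw [hM0card, hM2card, ha, hb]
    exact Nat.Coprime.pow _ _ ((Nat.coprime_primes hr ht).2 hrt)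
  obtain ⟨e, d, θ, Φ, he, hd, hcard, hθ, -, hΦ⟩ := exists_form ρ K (hqp K hKn)
  haveI : Fintype (G ⧸ H) := Fintype.ofFinite _
  refine reduced K L H M hLK hLH hKH hsup hKnle hLM hMH hMn hcen hML hcop he hd
    ((MonoidHomClass.toMonoidHom Φ).comp ρ) θ hΦ hθ (noSub_transport hirr Φ)
    (fun N hN => homog_transport (hqp N hN) Φ) (Φ π) ?_ ?_ (fun h hh => ?_) (fun g hg => ?_) ?_ ?_
  · exact fun h => hπ0 (Φ.injective (by rw [h, map_zero]))
  · rw [← map_mul, hπi]
  · show Φ π * Φ (ρ h) = Φ (ρ h) * Φ π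
    rw [← map_mul, ← map_mul, hπH h hh]
  · show Φ π * Φ (ρ g) * Φ π = 0
    rw [← map_mul, ← map_mul, hπg g hg, map_zero]
  · intro _
    show ∑ c : G ⧸ H, Φ (ρ c.out) * Φ π * Φ (ρ c.out⁻¹) = 1
    simp only [← map_mul, ← map_sum]
    rw [hπs, map_one]
  · intro m hm
    exact ih m (by rw [← hn, hcard]; exact hm)

end Cfsg.Agent.Berger
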