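import Cfsg.Agent.Lib.Berger.Lift

/-!
# The reduced configuration of Berger's theorem
-/

set_option autoImplicit false
set_option linter.style.haveILetI false
set_option linter.unusedSectionVars false
set_option linter.unusedVariables false
set_option maxHeartbeats 1600000

namespace Cfsg.Agent.Berger

open Matrix Module
open scoped Kronecker

universe u

/-- No quasi-primitive solvable irreducible matrix group of degree `n` is imprimitive. -/
def NoImprim (n : ℕ) : Prop :=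
  ∀ (G : Type u) [Group G] [Finite G] [Group.IsSolvable G] (ι : Type) [Fintype ι] [DecidableEq ι]
    (ρ : G →* Matrix ι ι ℂ), Fintype.card ι = n → 0 < n → NoSub ρ →
    (∀ N : Subgroup G, N.Normal → Homog ρ N) →
    ∀ (H : Subgroup G), H ≠ ⊤ → ∀ (Y : Submodule ℂ (ι → ℂ)), Y ≠ ⊥ →
      (∀ h ∈ H, ∀ v ∈ Y, ρ h *ᵥ v ∈ Y) → H.index * finrank ℂ Y ≤ n → False

variable {G : Type u} [Group G]

theorem idem_central [Finite G] {ι : Type} [Fintype ι] [DecidableEq ι] [Fintype G]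
    (ρ : G →* Matrix ι ι ℂ) (θ : Cfsg.IrrCharacter G) (n : G) :
    idem ρ (θ : G → ℂ) * ρ n = ρ n * idem ρ (θ : G → ℂ) := by
  have hcl := Char.IsCharacter.isClassFunction (Char.IsIrrCharacter.isCharacter θ.2)
  simp only [idem, smul_mul_assoc, mul_smul_comm, Finset.sum_mul, Finset.mul_sum]
  congr 1
  refine Fintype.sum_equiv (MulAut.conj n⁻¹).toEquiv _ _ fun x => ?_
  simp only [MulEquiv.toEquiv_eq_coe, MulEquiv.coe_toEquiv, MulAut.conj_apply, ← map_mul, inv_inv]
  congr 1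
  · rw [← hcl x⁻¹ n⁻¹]
    congr 1
    group
  · congr 1
    group

theorem idem_conj {ι : Type} [Fintype ι] [DecidableEq ι] [Fintype G] (ρ : G →* Matrix ι ι ℂ)
    (α : G ≃* G) {T T' : Matrix ι ι ℂ} (h : ∀ x, T * ρ x * T' = ρ (α x)) (θ : G → ℂ) :
    T * idem ρ θ * T' = idem ρ (fun x => θ (α.symm x)) := by
  simp only [idem, mul_smul_comm, smul_mul_assoc, Finset.mul_sum, Finset.sum_mul, h, map_one]
  congr 1
  refine Fintype.sum_equiv α.toEquiv _ _ fun x => ?_
  simp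

/-- The ratio of an irreducible matrix representation to a homogeneous restriction. -/
theorem ratio_dvd [Finite G] (N P : Subgroup G) (hNP : N ≤ P) (hN : (N.subgroupOf P).Normal)
    {a b : ℕ} (ha : 0 < a) (hb : 0 < b) (τ : P →* Matrix (Fin a) (Fin a) ℂ) (hτ : NoSub τ)
    (σ : N →* Matrix (Fin b) (Fin b) ℂ) (hσ : NoSub σ) (m : ℕ)
    (htr : ∀ x : N, (τ ⟨(x : G), hNP x.2⟩).trace = (m : ℂ) * (σ x).trace) :
    a = m * b ∧ m ∣ N.relIndex P := by
  haveI := hN
  haveI : Nonempty (Fin a) := ⟨⟨0, ha⟩⟩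
  haveI : Nonempty (Fin b) := ⟨⟨0, hb⟩⟩
  haveI : Fintype P := Fintype.ofFinite P
  haveI : Fintype (N.subgroupOf P) := Fintype.ofFinite _
  have h1 : a = m * b := by
    have h := htr 1
    rw [map_one, show (⟨((1 : N) : G), hNP (1 : N).2⟩ : P) = 1 from rfl, map_one, Matrix.trace_one,
      Matrix.trace_one, Fintype.card_fin, Fintype.card_fin] at h
    exact_mod_cast h
  refine ⟨h1, ?_⟩
  let eqv := Subgroup.subgroupOfEquivOfLe hNP
  have hθ : Cfsg.IsIrrCharacter (N.subgroupOf P) (fun y => (σ (eqv y)).trace) :=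
    Char.IsIrrCharacter.comp (isIrr_trace hσ) eqv.toMonoidHom eqv.surjective
  have heq : (fun y : N.subgroupOf P => (τ (y : P)).trace) =
      (m : ℂ) • fun y => (σ (eqv y)).trace := funext fun y => htr (eqv y)
  have hm0 : m ≠ 0 := fun h => by simp [h] at h1; omega
  obtain ⟨e, he, hdvd⟩ := Char.exists_ratio_dvd_index (N := N.subgroupOf P) (isIrr_trace hτ) hθ (by
    rw [heq, Char.classInner_smul_left, Char.classInner_self_irr hθ, mul_one]
    exact Nat.cast_ne_zero.2 hm0)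
  have hem : e = m := by
    simp only [map_one, Matrix.trace_one, Fintype.card_fin, h1] at he
    have h2 : m * b = e * b := by exact_mod_cast he
    exact (Nat.eq_of_mul_eq_mul_right hb h2).symm
  exact hem ▸ hdvd

theorem natCast_trace_idempotent {ι : Type} [Fintype ι] [DecidableEq ι] {Z : Matrix ι ι ℂ}
    (hZ : Z * Z = Z) :
    Z.trace = (finrank ℂ (LinearMap.range (Matrix.mulVecLin Z)) : ℂ) := by
  have h : LinearMap.IsProj (LinearMap.range (Matrix.mulVecLin Z)) (Matrix.mulVecLin Z) :=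
    ⟨fun x => LinearMap.mem_range_self _ x, by
      rintro _ ⟨y, rfl⟩
      simp [Matrix.mulVec_mulVec, hZ]⟩
  rw [← h.trace]
  exact (Matrix.trace_toLin'_eq Z).symm

variable [Finite G] [Group.IsSolvable G]

theorem reduced (K L H M : Subgroup G) [hKn : K.Normal] [hLn : L.Normal] (hLK : L ≤ K) (hLH : L ≤ H)
    (hKH : ∀ x ∈ K, x ∈ H → x ∈ L) (hsup : K ⊔ H = ⊤) (hKL : ¬ K ≤ L)
    (hLM : L ≤ M) (hMH : M ≤ H) (hMn : ∀ h ∈ H, ∀ m ∈ M, h * m * h⁻¹ ∈ M)
    (hcen : ∀ m ∈ M, (∀ k ∈ K, m * k * m⁻¹ * k⁻¹ ∈ L) → m ∈ L) (hML : ¬ M ≤ L)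
    (hcop : Nat.Coprime (L.relIndex K) (L.relIndex M))
    {e d : ℕ} (he : 0 < e) (hd : 0 < d)
    (ρ : G →* Matrix (Fin e × Fin d) (Fin e × Fin d) ℂ) (θ : K →* Matrix (Fin d) (Fin d) ℂ)
    (hK : ∀ k : K, ρ k = onek (Fin e) (θ k)) (hθ : NoSub θ)
    (hirr : NoSub ρ) (hqp : ∀ N : Subgroup G, N.Normal → Homog ρ N)
    (π : Matrix (Fin e × Fin d) (Fin e × Fin d) ℂ) (hπ0 : π ≠ 0) (hπi : π * π = π)
    (hπH : ∀ h ∈ H, π * ρ h = ρ h * π) (hπg : ∀ g, g ∉ H → π * ρ g * π = 0)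
    (hπs : ∀ [Fintype (G ⧸ H)], ∑ c : G ⧸ H, ρ c.out * π * ρ c.out⁻¹ = 1)
    (ih : ∀ m < e * d, NoImprim.{u} m) : False := by
  classical
  haveI : Nonempty (Fin d) := ⟨⟨0, hd⟩⟩
  haveI : Nonempty (Fin e) := ⟨⟨0, he⟩⟩
  haveI : Fintype (G ⧸ H) := Fintype.ofFinite _
  set L' := L.subgroupOf K with hL'
  have hkey : ∀ k : K, θ k ∈ algOf θ L' → (k : G) ∈ L := by
    intro k hk
    have h1 : ρ k ∈ algOf ρ L := by
      rw [hK]
      have := map_algOf K.subtype ρ θ (onek (Fin e)).toLinearMap L' (fun n hn => by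
        show onek (Fin e) (θ n) ∈ _
        rw [← hK]
        exact apply_mem_algOf ρ ⟨n, hn, rfl⟩) hk
      refine algOf_mono ρ ?_ this
      rintro _ ⟨n, hn, rfl⟩
      exact hn
    by_contra hkL
    have h2 : π * ρ k = ρ k * π := commute_algOf (fun n hn => hπH n (hLH hn)) h1
    have h3 := hπg k (fun h => hkL (hKH k k.2 h))
    rw [h2, mul_assoc, hπi] at h3
    apply hπ0
    calc π = ρ (k : G)⁻¹ * (ρ k * π) := by rw [← mul_assoc, ← map_mul, inv_mul_cancel, map_one, one_mul]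
      _ = 0 := by rw [h3, mul_zero]
  have hd1 : 1 < d := by
    by_contra h
    apply hKL
    intro k hk
    refine hkey ⟨k, hk⟩ ?_
    haveI : Subsingleton (Fin d) := Fin.subsingleton_iff_le_one.2 (by omega)
    have : θ ⟨k, hk⟩ = (θ ⟨k, hk⟩ ⟨0, hd⟩ ⟨0, hd⟩) • 1 := by
      ext i j
      rw [Subsingleton.elim i ⟨0, hd⟩, Subsingleton.elim j ⟨0, hd⟩]
      simp
    rw [this]
    exact Submodule.smul_mem _ _ (one_mem_algOf θ L')
  haveI : Finite (Cov K θ) := cov_finite K θ hd hθ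
  haveI : Group.IsSolvable (Cov K θ) := cov_solvable K θ hd hθ
  have hsurj := cov_surjective K θ hd hθ ρ he hK
  obtain ⟨ξ, hξ⟩ := exists_xi K θ hd hθ ρ hK
  set f := covFst K θ with hf
  set τ := covSnd K θ with hτ
  have hsnd : ∀ (p : Cov K θ) (k : K), f p = k → ∃ c : ℂ, c ≠ 0 ∧ τ p = c • θ k := by
    intro p k hpk
    obtain ⟨c, hc⟩ := schur hθ (x := θ k⁻¹ * τ p) fun x => by
      rw [mul_assoc, show τ p * θ x = θ (MulAut.conjNormal (f p) x) * τ p from covSnd_conj K θ p x,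
        ← mul_assoc, ← mul_assoc, ← map_mul, ← map_mul]
      congr 2
      apply Subtype.ext
      rw [Subgroup.coe_mul, MulAut.conjNormal_apply, hpk, Subgroup.coe_mul]
      simp [mul_assoc]
    have h1 : τ p = c • θ k := by
      rw [← mul_one (θ k), ← mul_smul_comm, ← hc, ← mul_assoc, ← map_mul, mul_inv_cancel, map_one,
        one_mul]
    refine ⟨c, fun h0 => ?_, h1⟩
    have := covSnd_det K θ p
    rw [← hτ, h1, h0, zero_smul, Matrix.det_zero] at this
    exact zero_ne_one this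
  set Lt := L.comap f with hLt
  set Kt := K.comap f with hKt
  set Mt := M.comap f with hMt
  haveI hLtn : Lt.Normal := hLn.comap f
  have hA : algOf τ Lt = algOf θ L' := by
    refine le_antisymm (Submodule.span_le.2 ?_) (Submodule.span_le.2 ?_)
    · rintro _ ⟨p, hp, rfl⟩
      obtain ⟨c, -, hc⟩ := hsnd p ⟨f p, hLK hp⟩ rfl
      rw [SetLike.mem_coe, hc]
      exact Submodule.smul_mem _ _ (apply_mem_algOf θ hp)
    · rintro _ ⟨k, hk, rfl⟩
      obtain ⟨p, hp⟩ := hsurj (k : G)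
      obtain ⟨c, hc0, hc⟩ := hsnd p k hp
      rw [SetLike.mem_coe, show θ k = c⁻¹ • τ p by rw [hc, smul_smul, inv_mul_cancel₀ hc0, one_smul]]
      refine Submodule.smul_mem _ _ (apply_mem_algOf τ ?_)
      show f p ∈ L
      rw [hp]
      exact hk
  have hLcomm : ∀ x : Matrix (Fin d) (Fin d) ℂ, (∀ p ∈ Lt, x * τ p = τ p * x) →
      ∀ l ∈ L', x * θ l = θ l * x := fun x hx l hl =>
    commute_algOf hx (hA ▸ apply_mem_algOf θ hl)
  have hhomL : Homog τ Lt := by
    intro z hz hcom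
    rw [hA] at hz
    have hle : L'.map K.subtype = L := Subgroup.map_subgroupOf_eq_of_le hLK
    have hmem := map_algOf K.subtype ρ θ (onek (Fin e)).toLinearMap L' (fun n hn => by
      show onek (Fin e) (θ n) ∈ _
      rw [← hK]
      exact apply_mem_algOf ρ ⟨n, hn, rfl⟩) hz
    rw [hle] at hmem
    obtain ⟨c, hc⟩ := hqp L hLn _ hmem fun g hg => by
      show onek (Fin e) z * ρ g = ρ g * onek (Fin e) z
      rw [show ρ g = ρ ((⟨g, hLK hg⟩ : K) : G) from rfl, hK, ← map_mul, ← map_mul,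
        hLcomm z hcom _ hg]
    exact ⟨c, scalar_of_onek hc⟩
  obtain ⟨m', kL, σL, ΦL, hm', hkL, -, hσL, htrL, hΦL⟩ := exists_form τ Lt hhomL
  haveI : Nonempty (Fin kL) := ⟨⟨0, hkL⟩⟩
  haveI : Nonempty (Fin m') := ⟨⟨0, hm'⟩⟩
  have hLtKt : Lt ≤ Kt := fun p hp => hLK hp
  have hKtop : algOf (res τ Kt) ⊤ = ⊤ := by
    rw [algOf_res_top, eq_top_iff, ← algOf_top_eq_top hθ]
    refine Submodule.span_le.2 ?_
    rintro _ ⟨k, -, rfl⟩
    obtain ⟨p, hp⟩ := hsurj (k : G)
    obtain ⟨c, hc0, hc⟩ := hsnd p k hp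
    rw [SetLike.mem_coe, show θ k = c⁻¹ • τ p by rw [hc, smul_smul, inv_mul_cancel₀ hc0, one_smul]]
    refine Submodule.smul_mem _ _ (apply_mem_algOf τ ?_)
    show f p ∈ K
    rw [hp]
    exact k.2
  have hrelK : Lt.relIndex Kt = L.relIndex K := by
    rw [hLt, Subgroup.relIndex_comap, hKt, Subgroup.map_comap_eq_self_of_surjective hsurj]
  have hrelM : Lt.relIndex Mt = L.relIndex M := by
    rw [hLt, Subgroup.relIndex_comap, hMt, Subgroup.map_comap_eq_self_of_surjective hsurj]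
  obtain ⟨-, hm'dvd⟩ := ratio_dvd Lt Kt hLtKt inferInstance hd hkL (res τ Kt) (noSub_of_algOf hKtop)
    σL hσL m' fun x => htrL x
  rw [hrelK] at hm'dvd
  have hnot : ¬ Homog τ Mt := by
    intro hM
    obtain ⟨a, kM, σM, ΦM, ha, hkM, -, hσM, htrM, hΦM⟩ := exists_form τ Mt hM
    haveI : Nonempty (Fin kM) := ⟨⟨0, hkM⟩⟩
    have hLtMt : Lt ≤ Mt := fun p hp => hLM hp
    let j : Lt →* Mt := Subgroup.inclusion hLtMt
    haveI : Fintype Lt := Fintype.ofFinite _
    have hrel : ∀ x : Lt, (a : ℂ) * (σM (j x)).trace = (m' : ℂ) * (σL x).trace := fun x => by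
      rw [← htrM, ← htrL]; rfl
    obtain ⟨b, hb⟩ := Char.IsCharacter.exists_classInner_nat (isCharacter_trace (σM.comp j))
      (Char.IsIrrCharacter.isCharacter (isIrr_trace hσL))
    have ha0 : (a : ℂ) ≠ 0 := Nat.cast_ne_zero.2 ha.ne'
    have hfun : (fun x : Lt => (σM.comp j x).trace) =
        ((m' : ℂ) / a) • fun x => (σL x).trace := funext fun x => by
      rw [Pi.smul_apply, smul_eq_mul, MonoidHom.comp_apply, div_mul_eq_mul_div, ← hrel x,
        mul_div_cancel_left₀ _ ha0]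
    rw [hfun, Char.classInner_smul_left, Char.classInner_self_irr (isIrr_trace hσL), mul_one] at hb
    have hab : m' = a * b := by
      have : (m' : ℂ) = (a : ℂ) * b := by rw [← hb]; field_simp
      exact_mod_cast this
    have hbtr : ∀ x : Lt, (σM (j x)).trace = (b : ℂ) * (σL x).trace := fun x => by
      have := congrFun hfun x
      rw [hb] at this
      exact this
    obtain ⟨hkMb, hbdvd⟩ := ratio_dvd Lt Mt hLtMt inferInstance hkM hkL σM hσM σL hσL b hbtr
    rw [hrelM] at hbdvd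
    have hb1 : b = 1 := Nat.eq_one_of_dvd_coprimes hcop
      ((Dvd.intro_left a hab.symm).trans hm'dvd) hbdvd
    obtain ⟨P, Q, hPQ, hQP, hint⟩ := exists_intertwiner (σM.comp j) σL fun x => by
      rw [MonoidHom.comp_apply, hbtr, hb1, Nat.cast_one, one_mul]
    have hspanM : algOf (σM.comp j) ⊤ = ⊤ := by
      rw [eq_top_iff]
      intro y _
      let Φ := algConj hPQ hQP
      have h1 : Φ y ∈ algOf σL ⊤ := algOf_top_eq_top hσL ▸ Submodule.mem_top
      have h2 : algOf σL ⊤ ≤ (algOf (σM.comp j) ⊤).comap Φ.symm.toLinearMap :=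
        Submodule.span_le.2 (by
          rintro _ ⟨x, -, rfl⟩
          show Φ.symm (σL x) ∈ algOf (σM.comp j) ⊤
          have : Φ (σM.comp j x) = σL x := by
            show P * σM.comp j x * Q = _
            rw [hint, Matrix.mul_assoc, hPQ, Matrix.mul_one]
          rw [← this, AlgEquiv.symm_apply_apply]
          exact apply_mem_algOf _ (Subgroup.mem_top x))
      have h3 := h2 h1
      simpa using h3
    have hmemM : ∀ p ∈ Mt, τ p ∈ algOf τ Lt := by
      intro p hp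
      have h1 : σM ⟨p, hp⟩ ∈ algOf (σM.comp j) ⊤ := hspanM ▸ Submodule.mem_top
      have h2 := map_algOf Lt.subtype τ (σM.comp j)
        (ΦM.symm.toLinearMap ∘ₗ (onek (Fin a)).toLinearMap) ⊤ (fun x _ => by
          show ΦM.symm (onek (Fin a) (σM (j x))) ∈ _
          rw [← hΦM, AlgEquiv.symm_apply_apply]
          exact apply_mem_algOf τ ⟨x, Subgroup.mem_top x, rfl⟩) h1
      rw [← MonoidHom.range_eq_map, Subgroup.range_subtype] at h2
      have h3 : ΦM.symm (onek (Fin a) (σM ⟨p, hp⟩)) ∈ algOf τ Lt := h2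
      rwa [← hΦM, AlgEquiv.symm_apply_apply] at h3
    apply hML
    intro m hm
    obtain ⟨p, rfl⟩ := hsurj m
    refine hcen _ hm fun k hk => ?_
    set k' : K := MulAut.conjNormal (f p) ⟨k, hk⟩ * ⟨k, hk⟩⁻¹
    have hk' : (k' : G) = f p * k * (f p)⁻¹ * k⁻¹ := by
      simp [k', MulAut.conjNormal_apply]
    rw [← hk']
    refine hkey k' ?_
    have e1 : θ k' = τ p * (θ ⟨k, hk⟩ * τ p⁻¹ * θ ⟨k, hk⟩⁻¹) := by
      rw [← mul_assoc, ← mul_assoc,
        show τ p * θ ⟨k, hk⟩ = θ (MulAut.conjNormal (f p) ⟨k, hk⟩) * τ p from covSnd_conj K θ p _,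
        mul_assoc (θ (MulAut.conjNormal (f p) ⟨k, hk⟩)), show τ p * τ p⁻¹ = 1 from
        covSnd_mul_inv K θ p, mul_one, ← map_mul]
    rw [e1]
    refine mul_mem_algOf θ (hA ▸ hmemM p hm) (conj_mem_algOf θ (fun n hn => ?_)
      (hA ▸ hmemM p⁻¹ (Mt.inv_mem hm)))
    exact (hLn.subgroupOf K).conj_mem n hn _
  haveI : Fintype Mt := Fintype.ofFinite _
  let E : Cfsg.IrrCharacter Mt → Matrix (Fin d) (Fin d) ℂ := fun ϑ => idem (res τ Mt) (ϑ : Mt → ℂ)
  have hEne : ∀ ϑ, E ϑ ≠ 1 := by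
    intro ϑ h
    apply hnot
    have hne : Cfsg.classInner (fun g => (res τ Mt g).trace) (ϑ : Mt → ℂ) ≠ 0 := fun h0 => by
      have := trace_idem_mul (res τ Mt) ϑ 1
      rw [show idem (res τ Mt) (ϑ : Mt → ℂ) = 1 from h, h0, zero_mul, one_mul, map_one,
        Matrix.trace_one, Fintype.card_fin, Nat.cast_eq_zero] at this
      omega
    obtain ⟨n, -, hn⟩ := trace_eq_of_idem_scalar (res τ Mt) ϑ (c := 1) (by rw [one_smul]; exact h) hne
    exact homog_of_trace τ Mt ϑ.2 hn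
  have hEC : ∀ ϑ, ∀ l ∈ L', E ϑ * θ l = θ l * E ϑ := fun ϑ =>
    hLcomm _ fun p hp => idem_central (res τ Mt) ϑ ⟨p, hLM hp⟩
  have hlift : ∀ q : G ⧸ H, ∃ k : K, QuotientGroup.mk (k : G) = q := by
    intro q
    obtain ⟨g, rfl⟩ := QuotientGroup.mk_surjective q
    obtain ⟨k, hk, h, hh, rfl⟩ :=
      Subgroup.mem_sup_of_normal_left.mp (hsup ▸ Subgroup.mem_top g : g ∈ K ⊔ H)
    exact ⟨⟨k, hk⟩, QuotientGroup.eq.2 (by simpa using hh)⟩
  choose s hs using hlift
  let term : Matrix (Fin d) (Fin d) ℂ → G → Matrix (Fin e × Fin d) (Fin e × Fin d) ℂ :=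
    fun c k => ρ k * (π * onek (Fin e) c) * ρ k⁻¹
  let InC : Matrix (Fin d) (Fin d) ℂ → Prop := fun c => ∀ l ∈ L', c * θ l = θ l * c
  have hindep : ∀ c, InC c → ∀ k k' : G, k ∈ K → k' ∈ K →
      (QuotientGroup.mk k : G ⧸ H) = QuotientGroup.mk k' → term c k = term c k' := by
    intro c hc k k' hk hk' heq
    have hlH := QuotientGroup.eq.1 heq
    have hlK : k⁻¹ * k' ∈ K := K.mul_mem (K.inv_mem hk) hk'
    set l : K := ⟨k⁻¹ * k', hlK⟩
    have hlL : l ∈ L' := hKH _ hlK hlH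
    have e1 : onek (Fin e) c * ρ (k'⁻¹ * k) = ρ (k'⁻¹ * k) * onek (Fin e) c := by
      have : k'⁻¹ * k = ((l⁻¹ : K) : G) := by simp [l]
      rw [this, hK, ← map_mul, ← map_mul, hc _ (L'.inv_mem hlL)]
    have e2 : π * ρ (k⁻¹ * k') = ρ (k⁻¹ * k') * π := hπH _ hlH
    simp only [term]
    calc ρ k * (π * onek (Fin e) c) * ρ k⁻¹
        = ρ k * (π * (onek (Fin e) c * (ρ (k⁻¹ * k') * ρ (k'⁻¹ * k)))) * ρ k⁻¹ := by
          rw [← map_mul, show k⁻¹ * k' * (k'⁻¹ * k) = 1 by group, map_one, mul_one]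
      _ = ρ k * (π * ρ (k⁻¹ * k') * onek (Fin e) c) * (ρ (k'⁻¹ * k) * ρ k⁻¹) := by
          have e1' : onek (Fin e) c * ρ (k⁻¹ * k') = ρ (k⁻¹ * k') * onek (Fin e) c := by
            have : k⁻¹ * k' = ((l : K) : G) := rfl
            rw [this, hK, ← map_mul, ← map_mul, hc _ hlL]
          simp only [mul_assoc]
          rw [← mul_assoc (onek (Fin e) c) (ρ (k⁻¹ * k')), e1', mul_assoc (ρ (k⁻¹ * k'))]
      _ = ρ k' * (π * onek (Fin e) c) * ρ k'⁻¹ := by
          rw [e2, ← map_mul ρ (k'⁻¹ * k), mul_assoc (ρ (k⁻¹ * k')), ← mul_assoc (ρ k), ← map_mul]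
          congr 3 <;> group
  let R : Matrix (Fin d) (Fin d) ℂ → Matrix (Fin e × Fin d) (Fin e × Fin d) ℂ :=
    fun c => ∑ q : G ⧸ H, term c (s q : G)
  have hcard : ∀ c, InC c → ∀ g ∈ K, ρ g * R c = R c * ρ g := by
    intro c hc g hg
    have h1 : ρ g * R c * ρ g⁻¹ = R c := by
      simp only [R, Finset.mul_sum, Finset.sum_mul]
      refine Fintype.sum_equiv (MulAction.toPerm g) _ _ fun q => ?_
      rw [hindep c hc (s (MulAction.toPerm g q)) (g * s q) (s _).2 (K.mul_mem hg (s q).2) (by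
        rw [hs, MulAction.toPerm_apply]
        conv_lhs => rw [← hs q]
        rfl)]
      simp only [term, map_mul, _root_.mul_inv_rev, mul_assoc]
    calc ρ g * R c = ρ g * R c * ρ g⁻¹ * ρ g := by
          rw [mul_assoc (ρ g * R c), ← map_mul, inv_mul_cancel, map_one, mul_one]
      _ = R c * ρ g := by rw [h1]
  have hZ : ∀ c, InC c → ∃ Z, R c = kone d Z := fun c hc =>
    exists_of_commute K θ hd hθ _ fun k => by rw [← hK]; exact (hcard c hc k k.2).symm
  have hR1 : R 1 = 1 := by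
    rw [← hπs]
    refine Finset.sum_congr rfl fun q _ => ?_
    simp only [term, map_one, mul_one]
    have hH : q.out⁻¹ * (s q : G) ∈ H :=
      QuotientGroup.eq.1 ((QuotientGroup.out_eq' q).trans (hs q).symm)
    rw [show (s q : G) = q.out * (q.out⁻¹ * s q) by group, map_mul, mul_assoc (ρ q.out),
      ← hπH _ hH, ← mul_assoc (ρ q.out) π, mul_assoc (ρ q.out * π), ← map_mul]
    congr 2
    group
  have hπR : ∀ c, InC c → π * R c = π * onek (Fin e) c := by
    intro c hc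
    simp only [R, Finset.mul_sum]
    rw [Finset.sum_eq_single (QuotientGroup.mk (1 : G))]
    · rw [hindep c hc _ 1 (s _).2 K.one_mem (hs _)]
      simp only [term, inv_one, map_one, one_mul, mul_one, ← mul_assoc, hπi]
    · intro q _ hq
      have hnot : (s q : G) ∉ H := fun h => hq (by
        rw [← hs q]; exact QuotientGroup.eq.2 (by simpa using H.inv_mem h))
      simp only [term, ← mul_assoc]
      rw [hπg _ hnot, zero_mul, zero_mul]
    · exact fun h => absurd (Finset.mem_univ _) h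
  have hanti : ∀ a b, InC a → InC b → R b * R a = R (a * b) := by
    intro a b ha hb
    obtain ⟨Za, hZa⟩ := hZ a ha
    simp only [R, Finset.sum_mul]
    refine Finset.sum_congr rfl fun q _ => ?_
    show term b (s q) * R a = term (a * b) (s q)
    simp only [term]
    have h1 : ρ (s q : G)⁻¹ * R a = R a * ρ (s q : G)⁻¹ := hcard a ha _ (K.inv_mem (s q).2)
    have h2 : onek (Fin e) b * R a = R a * onek (Fin e) b := by
      rw [hZa, onek_mul_kone, kone_mul_onek]
    rw [mul_assoc _ (ρ (s q : G)⁻¹), h1, ← mul_assoc, mul_assoc (ρ (s q : G)), mul_assoc π, h2,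
      ← mul_assoc π, hπR a ha, mul_assoc π, ← map_mul]
  have hzero : ∀ c, InC c → R c = 0 → c = 0 := by
    intro c hc h0
    by_contra hne
    have hφ : ∀ x, (∀ p : Lt, x * onek (Fin m') (σL p) = onek (Fin m') (σL p) * x) →
        InC (ΦL.symm x) := fun x hx => hLcomm _ fun p hp => by
      apply ΦL.injective
      have hΦ := hΦL ⟨p, hp⟩
      simp only at hΦ
      rw [map_mul, map_mul, AlgEquiv.apply_symm_apply, hΦ, hx]
    obtain ⟨Z, hZc⟩ := exists_of_commute Lt σL hkL hσL (ΦL c) fun p => by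
      rw [← hΦL, ← map_mul, ← map_mul,
        commute_algOf (ρ := θ) (N := L') hc (hA ▸ apply_mem_algOf τ p.2)]
    obtain ⟨i, j, hij⟩ : ∃ i j, Z i j ≠ 0 := by
      by_contra h
      push Not at h
      apply hne
      apply ΦL.injective
      rw [hZc, map_zero, show Z = 0 from Matrix.ext h, Matrix.zero_kronecker]
    have hcone : ∀ i j : Fin m', InC (ΦL.symm (kone kL (Matrix.single i j 1))) := fun i j =>
      hφ _ fun p => by rw [kone_mul_onek, onek_mul_kone]
    let u : Fin m' → Matrix (Fin d) (Fin d) ℂ := fun k =>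
      ΦL.symm (kone kL (Matrix.single k i 1)) * c * ΦL.symm (kone kL (Matrix.single j k 1))
    have hInCmul : ∀ a b, InC a → InC b → InC (a * b) := fun a b ha hb l hl => by
      rw [mul_assoc, hb l hl, ← mul_assoc, ha l hl, mul_assoc]
    have hu : ∑ k, u k = Z i j • 1 := by
      apply ΦL.injective
      simp only [u, map_sum, map_mul, AlgEquiv.apply_symm_apply, map_smul, map_one, hZc,
        ← kone_apply]
      simp only [← map_mul, ← map_sum, ← map_one (kone (e := m') kL), ← map_smul]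
      congr 1
      ext a b
      simp only [Matrix.sum_apply, Matrix.single_mul_mul_single, one_mul, mul_one,
        Matrix.single_apply, Matrix.smul_apply, Matrix.one_apply, smul_eq_mul, mul_ite, mul_one,
        mul_zero]
      by_cases hab : a = b
      · subst hab
        simp
      · rw [if_neg hab, Finset.sum_eq_zero]
        intro k _
        rw [if_neg fun h => hab (h.1.symm.trans h.2)]
    have hRu : ∀ k, R (u k) = 0 := fun k => by
      simp only [u]
      rw [← hanti _ _ (hInCmul _ _ (hcone _ _) hc) (hcone _ _), ← hanti _ _ (hcone _ _) hc, h0,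
        zero_mul, mul_zero]
    have hRsum : R (∑ k, u k) = ∑ k, R (u k) := by
      simp only [R, term, map_sum, Finset.mul_sum, Finset.sum_mul]
      rw [Finset.sum_comm]
    have hRsmul : R (Z i j • (1 : Matrix (Fin d) (Fin d) ℂ)) = Z i j • R 1 := by
      simp only [R, term, map_smul, mul_smul_comm, smul_mul_assoc, Finset.smul_sum]
    have h1 : R (Z i j • (1 : Matrix (Fin d) (Fin d) ℂ)) = 0 := by
      rw [← hu, hRsum]
      exact Finset.sum_eq_zero fun k _ => hRu k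
    rw [hRsmul, hR1, smul_eq_zero] at h1
    exact h1.elim hij one_ne_zero
  choose F hF using fun ϑ => hZ (E ϑ) (hEC ϑ)
  have hkinj : Function.Injective (kone (e := e) d) := fun a b h => kron_one_injective hd h
  have hFmul : ∀ a b, F a * F b = if b = a then F b else 0 := by
    intro a b
    apply hkinj
    rw [map_mul, ← hF, ← hF, hanti _ _ (hEC b) (hEC a), idem_mul_idem (res τ Mt) b a]
    split_ifs with h
    · rw [← hF]
    · rw [map_zero]
      simp [R, term]
  have hFsum : ∑ ϑ, F ϑ = 1 := by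
    apply hkinj
    rw [map_sum, map_one, ← hR1]
    simp only [← hF]
    rw [show (1 : Matrix (Fin d) (Fin d) ℂ) = ∑ ϑ, E ϑ from (sum_idem _).symm]
    simp only [R, term, map_sum, Finset.mul_sum, Finset.sum_mul]
    rw [Finset.sum_comm]
  obtain ⟨ϑ0, hϑ0⟩ : ∃ ϑ, F ϑ ≠ 0 := by
    by_contra h
    push Not at h
    simp [h] at hFsum
  have hϑ1 : F ϑ0 ≠ 1 := fun h => hEne ϑ0 (by
    have h0 : InC (E ϑ0 - 1) := fun l hl => by rw [sub_mul, mul_sub, hEC ϑ0 l hl, one_mul, mul_one]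
    have h1 : R (E ϑ0 - 1) = 0 := by
      have : R (E ϑ0 - 1) = R (E ϑ0) - R 1 := by
        simp only [R, term, map_sub, mul_sub, sub_mul, Finset.sum_sub_distrib]
      rw [this, hR1, hF, h, map_one, sub_self]
    exact sub_eq_zero.1 (hzero _ h0 h1))
  have hconj : ∀ p : Cov K θ, ∃ ϑ, ξ p * F ϑ0 * ξ p⁻¹ = F ϑ := by
    intro p
    obtain ⟨k, hk, h, hh, hkh⟩ :=
      Subgroup.mem_sup_of_normal_left.mp (hsup ▸ Subgroup.mem_top (f p) : f p ∈ K ⊔ H)
    obtain ⟨ph, hph⟩ := hsurj h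
    set pk := p * ph⁻¹ with hpkdef
    have hpk : f pk = k := by
      rw [hpkdef, map_mul, map_inv, hph, ← hkh, mul_inv_cancel_right]
    have hscal : ∃ c : ℂ, ξ pk = c • 1 := by
      obtain ⟨c, hc0, hc⟩ := hsnd pk ⟨k, hk⟩ hpk
      refine ⟨c⁻¹, kron_one_injective hd ?_⟩
      have h1 := hξ pk
      rw [hpk, hc, show ρ k = ρ ((⟨k, hk⟩ : K) : G) from rfl, hK, ← kone_mul_onek, map_smul,
        mul_smul_comm] at h1
      have h2 : onek (Fin e) (θ ⟨k, hk⟩) * onek (Fin e) (θ ⟨k, hk⟩⁻¹) = 1 := by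
        rw [← map_mul, ← map_mul, mul_inv_cancel, map_one, map_one]
      rw [← kone_apply, ← kone_apply]
      calc kone d (ξ pk)
          = kone d (ξ pk) * (onek (Fin e) (θ ⟨k, hk⟩) * onek (Fin e) (θ ⟨k, hk⟩⁻¹)) := by
            rw [h2, mul_one]
        _ = c⁻¹ • (c • (kone d (ξ pk) * onek (Fin e) (θ ⟨k, hk⟩))) * onek (Fin e) (θ ⟨k, hk⟩⁻¹) := by
            rw [smul_smul, inv_mul_cancel₀ hc0, one_smul, mul_assoc]
        _ = kone d (c⁻¹ • 1) := by rw [← h1, smul_mul_assoc, h2, map_smul, map_one]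
    obtain ⟨c, hc⟩ := hscal
    have hstep : ξ p * F ϑ0 * ξ p⁻¹ = ξ ph * F ϑ0 * ξ ph⁻¹ := by
      have h1 : ξ pk * ξ pk⁻¹ = 1 := by rw [← map_mul, mul_inv_cancel, map_one]
      have hp1 : ξ p = ξ pk * ξ ph := by rw [← map_mul]; congr 1; simp [hpkdef]
      have hp2 : ξ p⁻¹ = ξ ph⁻¹ * ξ pk⁻¹ := by rw [← map_mul]; congr 1; simp [hpkdef]
      rw [hc, smul_mul_assoc, one_mul] at h1
      rw [hp1, hp2, hc]
      simp only [smul_mul_assoc, one_mul]
      rw [← mul_assoc, ← mul_smul_comm, h1, mul_one]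
    have hmem : ∀ x ∈ Mt, ph * x * ph⁻¹ ∈ Mt := fun x hx => by
      show f (ph * x * ph⁻¹) ∈ M
      rw [map_mul, map_mul, map_inv, hph]
      exact hMn h hh _ hx
    have hmem' : ∀ x ∈ Mt, ph⁻¹ * x * ph ∈ Mt := fun x hx => by
      show f (ph⁻¹ * x * ph) ∈ M
      rw [map_mul, map_mul, map_inv, hph]
      simpa using hMn h⁻¹ (H.inv_mem hh) _ hx
    let α : Mt ≃* Mt :=
      { toFun := fun x => ⟨ph * x * ph⁻¹, hmem _ x.2⟩
        invFun := fun x => ⟨ph⁻¹ * x * ph, hmem' _ x.2⟩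
        left_inv := fun x => Subtype.ext (by simp [mul_assoc])
        right_inv := fun x => Subtype.ext (by simp [mul_assoc])
        map_mul' := fun x y => Subtype.ext (by simp [mul_assoc]) }
    refine ⟨⟨fun x => (ϑ0 : Mt → ℂ) (α.symm x),
      Char.IsIrrCharacter.comp ϑ0.2 α.symm.toMonoidHom α.symm.surjective⟩, ?_⟩
    have hE : τ ph * E ϑ0 * τ ph⁻¹ = idem (res τ Mt) (fun x => (ϑ0 : Mt → ℂ) (α.symm x)) :=
      idem_conj (res τ Mt) α (fun x => by simp [α, map_mul]) _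
    rw [hstep]
    apply hkinj
    rw [map_mul, map_mul, ← hF, ← hF]
    show _ = R (idem (res τ Mt) (fun x => (ϑ0 : Mt → ℂ) (α.symm x)))
    rw [← hE]
    have hk1 : kone d (ξ ph) = ρ h * onek (Fin e) (τ ph⁻¹) := by
      rw [← hph, hξ, onek_apply, ← Matrix.mul_kronecker_mul, mul_one,
        show covSnd K θ ph * τ ph⁻¹ = 1 from covSnd_mul_inv K θ ph, kone_apply]
    have hk2 : kone d (ξ ph⁻¹) = onek (Fin e) (τ ph) * ρ h⁻¹ := by
      rw [← hph, ← map_inv f, hξ, onek_apply, ← Matrix.mul_kronecker_mul, one_mul,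
        show τ ph * covSnd K θ ph⁻¹ = 1 from covSnd_mul_inv K θ ph, kone_apply]
    have hcomm : onek (Fin e) (τ ph⁻¹) * R (E ϑ0) = R (E ϑ0) * onek (Fin e) (τ ph⁻¹) := by
      rw [hF, onek_mul_kone, kone_mul_onek]
    rw [hk1, hk2, mul_assoc (ρ h), hcomm, ← mul_assoc, mul_assoc (ρ h), mul_assoc (R (E ϑ0)),
      ← map_mul, show τ ph⁻¹ * τ ph = 1 from covSnd_inv_mul K θ ph, map_one, mul_one]
    simp only [R, Finset.mul_sum, Finset.sum_mul]
    refine Fintype.sum_equiv (MulAction.toPerm h) _ _ fun q => ?_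
    have hconjK : h * (s q : G) * h⁻¹ ∈ K := hKn.conj_mem _ (s q).2 h
    have hInC' : InC (τ ph * E ϑ0 * τ ph⁻¹) := by
      rw [hE]; exact hEC ⟨_, Char.IsIrrCharacter.comp ϑ0.2 α.symm.toMonoidHom α.symm.surjective⟩
    rw [hindep _ hInC' (s (MulAction.toPerm h q)) (h * (s q : G) * h⁻¹) (s _).2 hconjK (by
      rw [hs, MulAction.toPerm_apply]
      conv_lhs => rw [← hs q]
      exact (QuotientGroup.eq.2 (by simpa [mul_assoc] using hh)).symm)]
    simp only [term]
    have hk3 : ρ h * onek (Fin e) (E ϑ0) * ρ h⁻¹ = onek (Fin e) (τ ph * E ϑ0 * τ ph⁻¹) := by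
      rw [← hph, ← map_inv f, hξ, hξ, onek_apply, onek_apply, ← Matrix.mul_kronecker_mul,
        ← Matrix.mul_kronecker_mul, mul_one, ← map_mul, mul_inv_cancel, map_one]
    rw [← hk3]
    have e2 : ρ h⁻¹ * π = π * ρ h⁻¹ := (hπH _ (H.inv_mem hh)).symm
    simp only [map_mul, _root_.mul_inv_rev, inv_inv]
    have e3 : ∀ x, ρ h⁻¹ * (ρ h * x) = x := fun x => by
      rw [← mul_assoc, ← map_mul, inv_mul_cancel, map_one, one_mul]
    have e4 : ∀ x, π * (ρ h * x) = ρ h * (π * x) := fun x => by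
      rw [← mul_assoc, hπH _ hh, mul_assoc]
    simp only [mul_assoc, e4, e3]
  set Z0 := F ϑ0 with hZ0
  have hidem : Z0 * Z0 = Z0 := by rw [hZ0, hFmul, if_pos rfl]
  let H' : Subgroup (Cov K θ) :=
    { carrier := {p | ξ p * Z0 = Z0 * ξ p}
      one_mem' := by simp
      mul_mem' := fun {a b} ha hb => by
        simp only [Set.mem_ofPred_eq] at ha hb ⊢
        rw [map_mul, mul_assoc, hb, ← mul_assoc, ha, mul_assoc]
      inv_mem' := fun {a} ha => by
        simp only [Set.mem_ofPred_eq] at ha ⊢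
        calc ξ a⁻¹ * Z0 = ξ a⁻¹ * (Z0 * ξ a) * ξ a⁻¹ := by
              rw [mul_assoc, mul_assoc, ← map_mul, mul_inv_cancel, map_one, mul_one]
          _ = _ := by
              rw [← ha, ← mul_assoc, ← map_mul, inv_mul_cancel, map_one, one_mul] }
  set Y := LinearMap.range (Matrix.mulVecLin Z0) with hY
  have hYne : Y ≠ ⊥ := fun h => hϑ0 (by
    refine Matrix.ext_of_mulVec_single fun i => ?_
    have h1 : Z0 *ᵥ Pi.single i 1 ∈ Y := ⟨_, rfl⟩
    rw [h, Submodule.mem_bot] at h1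
    rw [h1, Matrix.zero_mulVec])
  have hYinv : ∀ p ∈ H', ∀ v ∈ Y, ξ p *ᵥ v ∈ Y := by
    rintro p hp _ ⟨v, rfl⟩
    refine ⟨ξ p *ᵥ v, ?_⟩
    simp only [Matrix.mulVecLin_apply, Matrix.mulVec_mulVec]
    rw [show ξ p * Z0 = Z0 * ξ p from hp]
  have hξirr := noSub_xi K θ hd hθ ρ he hK ξ hξ hirr
  have hH'ne : H' ≠ ⊤ := fun h => by
    rcases hξirr Y (fun p => hYinv p (h ▸ Subgroup.mem_top p)) with h1 | h1
    · exact hYne h1
    · refine hϑ1 (Matrix.ext_of_mulVec_single fun i => ?_)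
      obtain ⟨v, hv⟩ : Pi.single i 1 ∈ Y := h1 ▸ Submodule.mem_top
      rw [← hv, Matrix.mulVecLin_apply, Matrix.mulVec_mulVec, Matrix.mulVec_mulVec, one_mul, hidem]
  have hFid : ∀ ϑ, F ϑ * F ϑ = F ϑ := fun ϑ => by rw [hFmul, if_pos rfl]
  haveI : Fintype (Cov K θ ⧸ H') := Fintype.ofFinite _
  choose orb horb using fun q : Cov K θ ⧸ H' => hconj q.out
  have horbinj : Function.Injective orb := by
    intro q q' hqq
    have h1 := horb q
    rw [hqq, ← horb q'] at h1
    rw [← QuotientGroup.out_eq' q, ← QuotientGroup.out_eq' q']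
    refine QuotientGroup.eq.2 ?_
    show ξ (q.out⁻¹ * q'.out) * Z0 = Z0 * ξ (q.out⁻¹ * q'.out)
    calc ξ (q.out⁻¹ * q'.out) * Z0
        = ξ q.out⁻¹ * (ξ q'.out * Z0 * ξ q'.out⁻¹) * ξ q'.out := by
          rw [mul_assoc (ξ q.out⁻¹), mul_assoc (ξ q'.out * Z0), ← map_mul, inv_mul_cancel, map_one,
            mul_one, ← mul_assoc, ← map_mul]
      _ = ξ q.out⁻¹ * (ξ q.out * Z0 * ξ q.out⁻¹) * ξ q'.out := by rw [h1]
      _ = Z0 * ξ (q.out⁻¹ * q'.out) := by
          rw [← mul_assoc, ← mul_assoc, ← map_mul, inv_mul_cancel, map_one, one_mul, mul_assoc,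
            ← map_mul]
  have hrank : ∀ q, finrank ℂ (LinearMap.range (Matrix.mulVecLin (F (orb q)))) = finrank ℂ Y := by
    intro q
    have h1 : ((finrank ℂ (LinearMap.range (Matrix.mulVecLin (F (orb q)))) : ℕ) : ℂ) =
        (finrank ℂ Y : ℂ) := by
      rw [← natCast_trace_idempotent (hFid _), hY, ← natCast_trace_idempotent hidem, ← horb q,
        Matrix.trace_mul_cycle, ← map_mul, inv_mul_cancel, map_one, one_mul]
    exact_mod_cast h1
  have hsumrank : ∑ ϑ, finrank ℂ (LinearMap.range (Matrix.mulVecLin (F ϑ))) = e := by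
    have h1 := congrArg Matrix.trace hFsum
    rw [Matrix.trace_sum, Matrix.trace_one, Fintype.card_fin] at h1
    simp only [natCast_trace_idempotent (hFid _)] at h1
    exact_mod_cast h1
  have hbound : H'.index * finrank ℂ Y ≤ e := by
    refine le_of_le_of_eq ?_ hsumrank
    rw [Subgroup.index_eq_card, Nat.card_eq_fintype_card]
    calc Fintype.card (Cov K θ ⧸ H') * finrank ℂ Y
        = ∑ q, finrank ℂ (LinearMap.range (Matrix.mulVecLin (F (orb q)))) := by
          simp [hrank]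
      _ = ∑ ϑ ∈ Finset.univ.image orb, finrank ℂ (LinearMap.range (Matrix.mulVecLin (F ϑ))) := by
          rw [Finset.sum_image fun a _ b _ h => horbinj h]
      _ ≤ _ := Finset.sum_le_univ_sum_of_nonneg fun _ => Nat.zero_le _
  exact ih e (lt_mul_of_one_lt_right he hd1) (Cov K θ) (Fin e) ξ (Fintype.card_fin e) he hξirr
    (fun N hN => homog_xi K θ hd hθ ρ he hK ξ hξ hqp N hN) H' hH'ne Y hYne hYinv hbound

end Cfsg.Agent.Berger
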